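import Cfsg.Agent.H263.FF.Basic
set_option linter.all false

/-!
# A replacement theorem (Timmesfeld, Thompson) for abelian groups acting on an elementary abelian group
-/

set_option autoImplicit false
set_option linter.unusedSectionVars false
set_option linter.unusedVariables false

namespace Cfsg.Agent.H215.Timm

open Cfsg.Agent.H263.FF.Basic

variable {p : ℕ} [hp : Fact p.Prime]
variable {X : Type*} [Group X] {V : Type*} [AddCommGroup V] [DistribMulAction X V]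

/-- the kernel of `A` on `L` -/
def kr (A : Subgroup X) (L : AddSubgroup V) : Subgroup X where
  carrier := {x | x ∈ A ∧ ∀ v ∈ L, x • v = v}
  one_mem' := ⟨one_mem _, fun v _ => one_smul _ v⟩
  mul_mem' := fun {a b} ha hb => ⟨mul_mem ha.1 hb.1, fun v hv => by rw [mul_smul, hb.2 v hv, ha.2 v hv]⟩
  inv_mem' := fun {a} ha => ⟨inv_mem ha.1, fun v hv => by rw [inv_smul_eq_iff, ha.2 v hv]⟩

theorem mem_kr {A : Subgroup X} {L : AddSubgroup V} {x : X} : x ∈ kr A L ↔ x ∈ A ∧ ∀ v ∈ L, x • v = v := Iff.rfl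

theorem kr_le {A : Subgroup X} {L : AddSubgroup V} : kr A L ≤ A := fun _ h => h.1

variable [Finite X] [Finite V]

/-- for a `p`-group `B` acting on `L ≠ C_L(B)` there is an invariant proper subgroup containing `C_L(B)` and `[L, B]` -/
theorem exists_proper (hpV : ∀ v : V, p • v = 0) {B : Subgroup X} (hB : IsPGroup p B) {L C : AddSubgroup V}
    (hL : ∀ b ∈ B, ∀ v ∈ L, b • v ∈ L) (hC : ∀ b ∈ B, ∀ v ∈ C, b • v ∈ C) (hCL : C < L) :
    ∃ K : AddSubgroup V, C ≤ K ∧ K < L ∧ ∀ b ∈ B, ∀ v ∈ L, b • v - v ∈ K := by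
  obtain ⟨K, ⟨hK1, hK2, hK3⟩, hmax⟩ := (Set.toFinite {K : AddSubgroup V | C ≤ K ∧ K < L ∧ ∀ b ∈ B, ∀ v ∈ K, b • v ∈ K}).exists_maximal
    ⟨C, le_rfl, hCL, hC⟩
  refine ⟨K, hK1, hK2, ?_⟩
  obtain ⟨v₁, hv₁, hv₁K, hv₁'⟩ := exists_fixed hB hpV hK3 hL hK2.le hK2.not_ge
  let D : AddSubgroup V :=
    { carrier := {v | v ∈ L ∧ ∀ b ∈ B, b • v - v ∈ K}
      zero_mem' := ⟨zero_mem _, fun t ht => by rw [smul_zero, sub_zero]; exact zero_mem _⟩
      add_mem' := fun {a b} ha hb => ⟨add_mem ha.1 hb.1, fun t ht => by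
        have := K.add_mem (ha.2 t ht) (hb.2 t ht)
        rw [smul_add]; convert this using 1; abel⟩
      neg_mem' := fun {a} ha => ⟨neg_mem ha.1, fun t ht => by
        have := K.neg_mem (ha.2 t ht)
        rw [smul_neg]; convert this using 1; abel⟩ }
  have hKD : K ≤ D := fun v hv => ⟨hK2.le hv, fun b hb => K.sub_mem (hK3 b hb v hv) hv⟩
  have hDL : D ≤ L := fun v hv => hv.1
  have hDL' : D = L := by
    by_contra hne
    have h1 : D ∈ {K : AddSubgroup V | C ≤ K ∧ K < L ∧ ∀ b ∈ B, ∀ v ∈ K, b • v ∈ K} := by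
      refine ⟨hK1.trans hKD, lt_of_le_of_ne hDL hne, fun b hb v hv => ?_⟩
      have h2 := hv.2 b hb
      have h3 : b • v = (b • v - v) + v := by abel
      rw [h3]
      exact D.add_mem (hKD h2) hv
    exact hv₁K (hmax h1 hKD ⟨hv₁, hv₁'⟩)
  intro b hb v hv
  rw [← hDL'] at hv
  exact hv.2 b hb

/-- **Replacement.** -/
theorem timm {A : Subgroup X} {L : AddSubgroup V} (hA : ∀ a ∈ A, ∀ b ∈ A, a * b = b * a) (hAp : IsPGroup p A)
    (hpV : ∀ v : V, p • v = 0) (hL : ∀ a ∈ A, ∀ v ∈ L, a • v ∈ L)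
    (hle : Nat.card (kr A L) * Nat.card L ≤ Nat.card A * Nat.card (L ⊓ fx V A : AddSubgroup V))
    (hne : ∃ a ∈ A, ∃ v ∈ L, a • v ≠ v) :
    ∃ B : Subgroup X, B ≤ A ∧ kr A L ≤ B ∧ (∃ b ∈ B, ∃ v ∈ L, b • v ≠ v) ∧
      Nat.card (kr A L) * Nat.card L ≤ Nat.card B * Nat.card (L ⊓ fx V B : AddSubgroup V) ∧
      ∀ b ∈ B, ∀ b' ∈ B, ∀ v ∈ L, b' • (b • v - v) = b • v - v := by
  obtain ⟨B, ⟨hBA, hYB, hBne, hBle⟩, hmin⟩ := (Set.toFinite {B : Subgroup X | B ≤ A ∧ kr A L ≤ B ∧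
    (∃ b ∈ B, ∃ v ∈ L, b • v ≠ v) ∧
      Nat.card (kr A L) * Nat.card L ≤ Nat.card B * Nat.card (L ⊓ fx V B : AddSubgroup V)}).exists_minimal
    ⟨A, le_rfl, kr_le, hne, hle⟩
  refine ⟨B, hBA, hYB, hBne, hBle, ?_⟩
  set Y := kr A L with hY
  have hBc : ∀ a ∈ B, ∀ b ∈ B, a * b = b * a := fun a ha b hb => hA a (hBA ha) b (hBA hb)
  have hBL : ∀ a ∈ B, ∀ v ∈ L, a • v ∈ L := fun a ha => hL a (hBA ha)
  -- for each `v` the stabilizer
  have key : ∀ v ∈ L, ∀ b ∈ B, ∀ b' ∈ B, b' • (b • v - v) = b • v - v := by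
    intro v hv
    let B' : Subgroup X :=
      { carrier := {c | c ∈ B ∧ ∀ b ∈ B, c • (b • v - v) = b • v - v}
        one_mem' := ⟨one_mem _, fun b _ => one_smul _ _⟩
        mul_mem' := fun {c d} hc hd => ⟨mul_mem hc.1 hd.1, fun b hb => by rw [mul_smul, hd.2 b hb, hc.2 b hb]⟩
        inv_mem' := fun {c} hc => ⟨inv_mem hc.1, fun b hb => by rw [inv_smul_eq_iff, hc.2 b hb]⟩ }
    have hB'B : B' ≤ B := fun c hc => hc.1
    have hYB' : Y ≤ B' := fun y hy => ⟨hYB hy, fun b hb => hy.2 _ (L.sub_mem (hBL b hb v hv) hv)⟩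
    set C : AddSubgroup V := L ⊓ fx V B with hC
    -- the smaller target
    let R : AddSubgroup V := AddSubgroup.closure {w | ∃ b ∈ B, w = b • v - v}
    have hRmem : ∀ b ∈ B, b • v - v ∈ R := fun b hb => AddSubgroup.subset_closure ⟨b, hb, rfl⟩
    have hRle : R ≤ L ⊓ fx V B' := by
      rw [AddSubgroup.closure_le]
      rintro _ ⟨b, hb, rfl⟩
      exact ⟨L.sub_mem (hBL b hb v hv) hv, fun c hc => hc.2 b hb⟩
    have hCle : C ≤ L ⊓ fx V B' := fun w hw => ⟨hw.1, fx_anti hB'B hw.2⟩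
    have hcount := card_fib (A := B) (S := B') (C := C) (W := R ⊔ C) le_sup_right (fun b => b • v - v)
      (fun b hb => le_sup_left (a := R) (hRmem b hb)) (by
        intro a ha b hb hab
        refine ⟨mul_mem (inv_mem hb) ha, fun c hc => ?_⟩
        have h1 : (b⁻¹ * a) • v - v ∈ fx V B := by
          have h2 := hab.2
          intro d hd
          have e : (b⁻¹ * a) • v - v = b⁻¹ • ((a • v - v) - (b • v - v)) := by
            rw [sub_sub_sub_cancel_right, smul_sub, inv_smul_smul, mul_smul]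
          rw [e, h2 _ (inv_mem hb), h2 d hd]
        have h3 := h1 c hc
        have e1 : (b⁻¹ * a) • (c • v - v) = c • ((b⁻¹ * a) • v - v) + (c • v - v) - ((b⁻¹ * a) • v - v) := by
          rw [smul_sub, smul_sub, smul_smul, smul_smul, hBc _ (mul_mem (inv_mem hb) ha) c hc]; abel
        rw [e1, h3]; abel)
    have hW : R ⊔ C ≤ L ⊓ fx V B' := sup_le hRle hCle
    have hcard1 : Nat.card B * Nat.card C ≤ Nat.card B' * Nat.card (L ⊓ fx V B' : AddSubgroup V) :=
      hcount.trans (Nat.mul_le_mul_left _ (card_le hW))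
    by_cases hB'Y : ∃ b ∈ B', ∃ w ∈ L, b • w ≠ w
    · have h1 : B ≤ B' := hmin ⟨hB'B.trans hBA, hYB', hB'Y, hBle.trans hcard1⟩ hB'B
      intro b hb b' hb'
      exact (h1 hb').2 b hb
    · exfalso
      push Not at hB'Y
      have h1 : B' = Y := le_antisymm (fun b hb => ⟨hBA hb.1, hB'Y b hb⟩) hYB'
      have h2 : R ⊔ C = L := by
        apply eq_of_card_le (hW.trans inf_le_left)
        have h3 : Nat.card Y * Nat.card L ≤ Nat.card Y * Nat.card (R ⊔ C : AddSubgroup V) := by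
          have := hBle.trans hcount
          rwa [h1] at this
        exact Nat.le_of_mul_le_mul_left h3 Nat.card_pos
      have hCL : C < L := by
        refine lt_of_le_of_ne inf_le_left fun e => ?_
        obtain ⟨b, hb, w, hw, hbw⟩ := hBne
        rw [← e] at hw
        exact hbw (hw.2 b hb)
      obtain ⟨K, hK1, hK2, hK3⟩ := exists_proper hpV (hAp.to_le hBA) hBL
        (fun b hb w hw => by rw [hw.2 b hb]; exact hw) hCL
      have hRK : R ≤ K := by
        rw [AddSubgroup.closure_le]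
        rintro _ ⟨b, hb, rfl⟩
        exact hK3 b hb v hv
      have : L ≤ K := by rw [← h2]; exact sup_le hRK hK1
      exact hK2.not_ge this
  intro b hb b' hb' v hv
  exact key v hv b hb b' hb'

end Cfsg.Agent.H215.Timm
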