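import Cfsg.Agent.H264.CDLarge
import Cfsg.Prelude.Def_ConjugacyFunctors
import Cfsg.Agent.H263.FF.Basic
import Cfsg.Agent.H263.FF.OddMain
import Cfsg.Agent.H215.Timm
import Cfsg.Agent.H39.FTMain
set_option linter.all false

-- part: H215/Fun
section
/-!
# The characteristic functors `J`, `Jt`, `D`, `K`

`J P` is generated by the abelian subgroups of `P` of largest order, `Jt P = C_P(Z(J P))`, `D P` is the commutator
subgroup of the minimal centrally large subgroups of `P`; `K P` is `D (Jt P)` if this is nontrivial and `J P` otherwise.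
-/

set_option autoImplicit false
set_option linter.unusedSectionVars false
set_option linter.unusedVariables false

open Cfsg

namespace Cfsg.Agent.H215.Fun

variable {G H : Type*} [Group G] [Group H]

/-- abelian -/
def Ab (A : Subgroup G) : Prop := ∀ a ∈ A, ∀ b ∈ A, a * b = b * a

/-- `A` is an abelian subgroup of largest order of `P` -/
def LA (P A : Subgroup G) : Prop := A ≤ P ∧ Ab A ∧ ∀ B ≤ P, Ab B → Nat.card B ≤ Nat.card A

/-- the Thompson subgroup -/
def J (P : Subgroup G) : Subgroup G := sSup {A | LA P A}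

/-- the centre, as a subgroup of the ambient group -/
def Zs (P : Subgroup G) : Subgroup G := P ⊓ Subgroup.centralizer (P : Set G)

/-- `C_P(Z(J P))` -/
def Jt (P : Subgroup G) : Subgroup G := P ⊓ Subgroup.centralizer (Zs (J P) : Set G)

/-- `|R| |Z(R)|` -/
noncomputable def fv (R : Subgroup G) : ℕ := Nat.card R * Nat.card (Zs R)

/-- centrally large in `P` -/
def CL (P R : Subgroup G) : Prop := R ≤ P ∧ ∀ R' ≤ P, fv R' ≤ fv R

/-- minimal centrally large in `P` -/
def MCL (P R : Subgroup G) : Prop := CL P R ∧ ∀ R' ≤ R, CL P R' → R' = R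

/-- the commutator subgroup of the minimal centrally large subgroups -/
def D (P : Subgroup G) : Subgroup G := sSup {X | ∃ R, MCL P R ∧ X = ⁅R, R⁆}

open Classical in
/-- the functor -/
noncomputable def K (P : Subgroup G) : Subgroup G := if D (Jt P) = ⊥ then J P else D (Jt P)

theorem mem_Zs {P : Subgroup G} {x : G} : x ∈ Zs P ↔ x ∈ P ∧ ∀ y ∈ P, y * x = x * y := by
  rw [Zs, Subgroup.mem_inf, Subgroup.mem_centralizer_iff]; rfl

theorem Zs_le {P : Subgroup G} : Zs P ≤ P := inf_le_left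

theorem Jt_le {P : Subgroup G} : Jt P ≤ P := inf_le_left

theorem J_le {P : Subgroup G} : J P ≤ P := sSup_le fun _ h => h.1

theorem le_J {P A : Subgroup G} (h : LA P A) : A ≤ J P := le_sSup h

theorem mem_Jt {P : Subgroup G} {x : G} : x ∈ Jt P ↔ x ∈ P ∧ ∀ y ∈ Zs (J P), y * x = x * y := by
  rw [Jt, Subgroup.mem_inf, Subgroup.mem_centralizer_iff]; rfl

theorem J_le_Jt {P : Subgroup G} : J P ≤ Jt P := by
  intro x hx
  rw [mem_Jt]
  exact ⟨J_le hx, fun y hy => ((mem_Zs.1 hy).2 x hx).symm⟩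

theorem Ab.mono {A B : Subgroup G} (h : Ab B) (hAB : A ≤ B) : Ab A := fun a ha b hb => h a (hAB ha) b (hAB hb)

/-! ### transport along injective homomorphisms -/

section map

variable (f : G →* H) (hf : Function.Injective f)
include hf

theorem exists_eq_map {P : Subgroup G} {B : Subgroup H} (hB : B ≤ P.map f) :
    ∃ A ≤ P, B = A.map f := by
  refine ⟨B.comap f, ?_, ?_⟩
  · intro x hx
    obtain ⟨y, hy, e⟩ := hB (Subgroup.mem_comap.1 hx)
    rwa [← hf e]
  · rw [Subgroup.map_comap_eq, inf_eq_right.2]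
    exact hB.trans (by rw [MonoidHom.range_eq_map]; exact Subgroup.map_mono le_top)

theorem card_map (A : Subgroup G) : Nat.card (A.map f) = Nat.card A :=
  Subgroup.card_map_of_injective hf

theorem map_le_map {A B : Subgroup G} : A.map f ≤ B.map f ↔ A ≤ B := Subgroup.map_le_map_iff_of_injective hf

theorem ab_map {A : Subgroup G} : Ab (A.map f) ↔ Ab A := by
  constructor
  · intro h a ha b hb
    apply hf
    rw [map_mul, map_mul]
    exact h _ ⟨a, ha, rfl⟩ _ ⟨b, hb, rfl⟩
  · rintro h _ ⟨a, ha, rfl⟩ _ ⟨b, hb, rfl⟩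
    rw [← map_mul, ← map_mul, h a ha b hb]

theorem LA_map {P A : Subgroup G} : LA (P.map f) (A.map f) ↔ LA P A := by
  constructor
  · rintro ⟨h1, h2, h3⟩
    refine ⟨(map_le_map f hf).1 h1, (ab_map f hf).1 h2, fun B hB hBa => ?_⟩
    have := h3 (B.map f) ((map_le_map f hf).2 hB) ((ab_map f hf).2 hBa)
    rwa [card_map f hf, card_map f hf] at this
  · rintro ⟨h1, h2, h3⟩
    refine ⟨(map_le_map f hf).2 h1, (ab_map f hf).2 h2, fun B hB hBa => ?_⟩
    obtain ⟨B', hB', rfl⟩ := exists_eq_map f hf hB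
    rw [card_map f hf, card_map f hf]
    exact h3 B' hB' ((ab_map f hf).1 hBa)

theorem J_map (P : Subgroup G) : J (P.map f) = (J P).map f := by
  apply le_antisymm
  · apply sSup_le
    intro B hB
    obtain ⟨A, hA, rfl⟩ := exists_eq_map f hf hB.1
    exact Subgroup.map_mono (le_J ((LA_map f hf).1 hB))
  · rw [Subgroup.map_le_iff_le_comap]
    apply sSup_le
    intro A hA
    rw [← Subgroup.map_le_iff_le_comap]
    exact le_J ((LA_map f hf).2 hA)

theorem map_inf_centralizer (P Q : Subgroup G) :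
    (P ⊓ Subgroup.centralizer (Q : Set G)).map f = P.map f ⊓ Subgroup.centralizer (Q.map f : Set H) := by
  ext y
  constructor
  · rintro ⟨x, ⟨hx, hx'⟩, rfl⟩
    refine Subgroup.mem_inf.2 ⟨⟨x, hx, rfl⟩, ?_⟩
    rw [Subgroup.mem_centralizer_iff]
    rintro _ ⟨q, hq, rfl⟩
    rw [← map_mul, ← map_mul, Subgroup.mem_centralizer_iff.1 hx' q hq]
  · rintro ⟨⟨x, hx, rfl⟩, hx'⟩
    refine ⟨x, Subgroup.mem_inf.2 ⟨hx, ?_⟩, rfl⟩
    rw [Subgroup.mem_centralizer_iff]
    intro q hq
    apply hf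
    rw [map_mul, map_mul]
    exact Subgroup.mem_centralizer_iff.1 hx' _ ⟨q, hq, rfl⟩

theorem Zs_map (P : Subgroup G) : Zs (P.map f) = (Zs P).map f := (map_inf_centralizer f hf P P).symm

theorem Jt_map (P : Subgroup G) : Jt (P.map f) = (Jt P).map f := by
  rw [Jt, Jt, map_inf_centralizer f hf, J_map f hf, Zs_map f hf]

theorem fv_map (P : Subgroup G) : fv (P.map f) = fv P := by
  rw [fv, fv, Zs_map f hf, card_map f hf, card_map f hf]

theorem CL_map {P R : Subgroup G} : CL (P.map f) (R.map f) ↔ CL P R := by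
  constructor
  · rintro ⟨h1, h2⟩
    refine ⟨(map_le_map f hf).1 h1, fun B hB => ?_⟩
    have := h2 (B.map f) ((map_le_map f hf).2 hB)
    rwa [fv_map f hf, fv_map f hf] at this
  · rintro ⟨h1, h2⟩
    refine ⟨(map_le_map f hf).2 h1, fun B hB => ?_⟩
    obtain ⟨B', hB', rfl⟩ := exists_eq_map f hf hB
    rw [fv_map f hf, fv_map f hf]
    exact h2 B' hB'

theorem MCL_map {P R : Subgroup G} : MCL (P.map f) (R.map f) ↔ MCL P R := by
  constructor
  · rintro ⟨h1, h2⟩
    refine ⟨(CL_map f hf).1 h1, fun B hB hBc => ?_⟩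
    exact Subgroup.map_injective hf (h2 (B.map f) ((map_le_map f hf).2 hB) ((CL_map f hf).2 hBc))
  · rintro ⟨h1, h2⟩
    refine ⟨(CL_map f hf).2 h1, fun B hB hBc => ?_⟩
    obtain ⟨B', hB', rfl⟩ := exists_eq_map f hf hB
    rw [h2 B' hB' ((CL_map f hf).1 hBc)]

theorem D_map (P : Subgroup G) : D (P.map f) = (D P).map f := by
  apply le_antisymm
  · apply sSup_le
    rintro _ ⟨R, hR, rfl⟩
    obtain ⟨A, hA, rfl⟩ := exists_eq_map f hf hR.1.1
    rw [← Subgroup.map_commutator]
    exact Subgroup.map_mono (le_sSup ⟨A, (MCL_map f hf).1 hR, rfl⟩)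
  · rw [Subgroup.map_le_iff_le_comap]
    apply sSup_le
    rintro _ ⟨R, hR, rfl⟩
    rw [← Subgroup.map_le_iff_le_comap, Subgroup.map_commutator]
    exact le_sSup ⟨R.map f, (MCL_map f hf).2 hR, rfl⟩

theorem K_map (P : Subgroup G) : K (P.map f) = (K P).map f := by
  have h1 : D (Jt (P.map f)) = (D (Jt P)).map f := by rw [Jt_map f hf, D_map f hf]
  have h2 : D (Jt (P.map f)) = ⊥ ↔ D (Jt P) = ⊥ := by
    rw [h1, Subgroup.map_eq_bot_iff_of_injective _ hf]
  rw [K, K]
  by_cases h : D (Jt P) = ⊥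
  · rw [if_pos h, if_pos (h2.2 h), J_map f hf]
  · rw [if_neg h, if_neg (fun e => h (h2.1 e)), h1]

end map

/-! ### conjugation -/

theorem conj_eq {W : Subgroup G → Subgroup G}
    (hW : ∀ (f : G →* G), Function.Injective f → ∀ P, W (P.map f) = (W P).map f) {P : Subgroup G} {g : G}
    (hg : g ∈ Subgroup.normalizer (P : Set G)) : g ∈ Subgroup.normalizer (W P : Set G) := by
  have key : ∀ Q : Subgroup G, g ∈ Subgroup.normalizer (Q : Set G) ↔ Q.map (MulAut.conj g).toMonoidHom = Q := by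
    intro Q
    rw [Subgroup.mem_normalizer_iff]
    constructor
    · intro h
      ext x
      constructor
      · rintro ⟨y, hy, rfl⟩
        exact (h y).1 hy
      · intro hx
        refine ⟨g⁻¹ * x * g, (h _).2 ?_, ?_⟩
        · rw [show g * (g⁻¹ * x * g) * g⁻¹ = x by group]; exact hx
        · show g * (g⁻¹ * x * g) * g⁻¹ = x; group
    · intro h x
      constructor
      · intro hx
        rw [← h]
        exact ⟨x, hx, rfl⟩
      · intro hx
        rw [← h] at hx
        obtain ⟨y, hy, e⟩ := hx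
        have : y = x := by
          have e' : g * y * g⁻¹ = g * x * g⁻¹ := e
          exact mul_left_cancel (mul_right_cancel e')
        rwa [this] at hy
  rw [key]
  have h1 := hW (MulAut.conj g).toMonoidHom (MulAut.conj g).injective P
  rw [(key P).1 hg] at h1
  exact h1.symm

theorem normalizer_le_J {P : Subgroup G} : Subgroup.normalizer (P : Set G) ≤ Subgroup.normalizer (J P : Set G) :=
  fun _ h => conj_eq (fun f hf P => J_map f hf P) h

theorem normalizer_le_Zs {P : Subgroup G} : Subgroup.normalizer (P : Set G) ≤ Subgroup.normalizer (Zs P : Set G) :=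
  fun _ h => conj_eq (fun f hf P => Zs_map f hf P) h

theorem normalizer_le_Jt {P : Subgroup G} : Subgroup.normalizer (P : Set G) ≤ Subgroup.normalizer (Jt P : Set G) :=
  fun _ h => conj_eq (fun f hf P => Jt_map f hf P) h

theorem normalizer_le_D {P : Subgroup G} : Subgroup.normalizer (P : Set G) ≤ Subgroup.normalizer (D P : Set G) :=
  fun _ h => conj_eq (fun f hf P => D_map f hf P) h

theorem normalizer_le_K {P : Subgroup G} : Subgroup.normalizer (P : Set G) ≤ Subgroup.normalizer (K P : Set G) :=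
  fun _ h => conj_eq (fun f hf P => K_map f hf P) h

/-! ### comparison with the definitions of the statements -/

section CD

theorem card_center (R : Subgroup G) : Nat.card (Subgroup.center R) = Nat.card (Zs R) :=
  Cfsg.Agent.H264.CD.card_center_eq R

variable [Finite G]

theorem isCentrallyLarge_iff (R : Subgroup G) : IsCentrallyLarge R ↔ CL ⊤ R := by
  constructor
  · intro h
    refine ⟨le_top, fun R' _ => ?_⟩
    have h1 := Cfsg.Agent.H264.CD.cent_le R'
    rw [← h, card_center, card_center] at h1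
    exact h1
  · rintro ⟨-, h⟩
    obtain ⟨R', hR'⟩ := Cfsg.Agent.H264.CD.exists_cent (G := G)
    have h1 := h R' le_top
    apply le_antisymm (Cfsg.Agent.H264.CD.cent_le R)
    rw [← hR', card_center, card_center]
    exact h1

theorem isMinimalCentrallyLarge_iff (R : Subgroup G) : IsMinimalCentrallyLarge R ↔ MCL ⊤ R := by
  unfold IsMinimalCentrallyLarge MCL
  rw [isCentrallyLarge_iff]
  refine and_congr_right fun _ => ?_
  constructor
  · intro h R' h1 h2
    exact h R' h1 ((isCentrallyLarge_iff R').2 h2)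
  · intro h R' h1 h2
    exact h R' h1 ((isCentrallyLarge_iff R').1 h2)

theorem top_map_subtype (P : Subgroup G) : (⊤ : Subgroup P).map P.subtype = P := by
  rw [← MonoidHom.range_eq_map, Subgroup.range_subtype]

theorem subgroupOf_map {P R : Subgroup G} (h : R ≤ P) : (R.subgroupOf P).map P.subtype = R := by
  rw [Subgroup.subgroupOf_map_subtype, inf_eq_left.2 h]

theorem CL_iff {P R : Subgroup G} (h : R ≤ P) : CL P R ↔ IsCentrallyLarge (R.subgroupOf P) := by
  rw [isCentrallyLarge_iff, ← CL_map P.subtype P.subtype_injective, top_map_subtype, subgroupOf_map h]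

theorem MCL_iff {P R : Subgroup G} (h : R ≤ P) : MCL P R ↔ IsMinimalCentrallyLarge (R.subgroupOf P) := by
  rw [isMinimalCentrallyLarge_iff, ← MCL_map P.subtype P.subtype_injective, top_map_subtype, subgroupOf_map h]

theorem MCL.commutator_eq {P R R' : Subgroup G} (h : MCL P R) (h' : MCL P R') : ⁅R, R⁆ = ⁅R', R'⁆ := by
  have h1 := Cfsg.Agent.H264.CD.commutator_eq' ((MCL_iff h.1.1).1 h) ((MCL_iff h'.1.1).1 h')
  have h2 := congrArg (fun Q => Q.map P.subtype) h1
  simp only [Subgroup.map_commutator] at h2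
  rwa [subgroupOf_map h.1.1, subgroupOf_map h'.1.1] at h2

theorem D_eq {P R : Subgroup G} (h : MCL P R) : D P = ⁅R, R⁆ := by
  apply le_antisymm
  · apply sSup_le
    rintro _ ⟨R', hR', rfl⟩
    exact (hR'.commutator_eq h).le
  · exact le_sSup ⟨R, h, rfl⟩

theorem exists_CL (P : Subgroup G) : ∃ R, CL P R := by
  obtain ⟨R, hR⟩ := Cfsg.Agent.H264.CD.exists_cent (G := P)
  refine ⟨R.map P.subtype, ?_⟩
  have := (CL_map P.subtype P.subtype_injective).2 ((isCentrallyLarge_iff R).1 hR)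
  rwa [top_map_subtype] at this

theorem exists_MCL_le {P Q : Subgroup G} (h : CL P Q) : ∃ R ≤ Q, MCL P R := by
  obtain ⟨R, ⟨h1, h2⟩, hmin⟩ := (Set.toFinite {R : Subgroup G | R ≤ Q ∧ CL P R}).exists_minimal ⟨Q, le_rfl, h⟩
  exact ⟨R, h1, h2, fun R' hR' hc => le_antisymm hR' (hmin ⟨hR'.trans h1, hc⟩ hR')⟩

theorem fv_eq_of_CL {P R R' : Subgroup G} (h : CL P R) (h' : CL P R') : fv R = fv R' :=
  le_antisymm (h'.2 _ h.1) (h.2 _ h'.1)

theorem CL_of_fv {P R R' : Subgroup G} (h : CL P R) (h1 : R' ≤ P) (h2 : fv R ≤ fv R') : CL P R' :=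
  ⟨h1, fun Q hQ => (h.2 Q hQ).trans h2⟩

/-- `C_P(R) ≤ R` for `R` centrally large in `P` -/
theorem CL.cent {P R : Subgroup G} (h : CL P R) : P ⊓ Subgroup.centralizer (R : Set G) ≤ R := by
  have h1 := ((Cfsg.Agent.H264.CD.isCentrallyLarge_iff _).1 ((CL_iff h.1).1 h)).2
  rintro x ⟨hx, hx'⟩
  have h2 : (⟨x, hx⟩ : P) ∈ R.subgroupOf P := by
    apply h1
    rw [Subgroup.mem_centralizer_iff]
    intro y hy
    exact Subtype.ext (Subgroup.mem_centralizer_iff.1 hx' _ hy)
  exact h2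

/-- if `D P = 1` then `|R| |Z(R)| ≤ a²` -/
theorem fv_le_of_D {P : Subgroup G} (hD : D P = ⊥) {A : Subgroup G}
    (hA : ∀ B ≤ P, Ab B → Nat.card B ≤ Nat.card A) {R : Subgroup G} (hR : R ≤ P) :
    fv R ≤ Nat.card A * Nat.card A := by
  obtain ⟨Q, hQ⟩ := exists_CL P
  obtain ⟨R₀, -, hR₀⟩ := exists_MCL_le hQ
  have h1 : ⁅R₀, R₀⁆ = ⊥ := by rw [← D_eq hR₀, hD]
  have h2 : Ab R₀ := by
    intro a ha b hb
    have h3 := Subgroup.commutator_mem_commutator ha hb
    rw [h1, Subgroup.mem_bot] at h3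
    exact commutatorElement_eq_one_iff_mul_comm.1 h3
  have h3 := hA R₀ hR₀.1.1 h2
  refine (hR₀.1.2 R hR).trans ?_
  rw [fv]
  exact Nat.mul_le_mul h3 ((Subgroup.card_le_of_le Zs_le).trans h3)

end CD

/-! ### basic properties of `J` -/

section J

variable [Finite G]

theorem exists_LA (P : Subgroup G) : ∃ A, LA P A := by
  classical
  obtain ⟨A, ⟨h1, h2⟩, hmax⟩ := (Set.toFinite {A : Subgroup G | A ≤ P ∧ Ab A}).exists_maximalFor
    (fun A : Subgroup G => Nat.card A) {A : Subgroup G | A ≤ P ∧ Ab A} ⟨⊥, bot_le, fun a ha b hb => by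
      rw [Subgroup.mem_bot] at ha hb; rw [ha, hb]⟩
  refine ⟨A, h1, h2, fun B hB hBa => ?_⟩
  by_contra hcon
  push Not at hcon
  exact hcon.not_ge (hmax ⟨hB, hBa⟩ hcon.le)

/-- an abelian subgroup of largest order contains everything in `P` that centralizes it -/
theorem LA.mem {P A : Subgroup G} (h : LA P A) {x : G} (hx : x ∈ P) (hc : ∀ a ∈ A, a * x = x * a) : x ∈ A := by
  have h1 : Ab (A ⊔ Subgroup.zpowers x) := by
    have h2 : A ⊔ Subgroup.zpowers x ≤ Subgroup.centralizer ((A ⊔ Subgroup.zpowers x : Subgroup G) : Set G) := by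
      have h3 : A ≤ Subgroup.centralizer ((A ⊔ Subgroup.zpowers x : Subgroup G) : Set G) := by
        rw [Subgroup.le_centralizer_iff]
        apply sup_le
        · intro a ha
          rw [Subgroup.mem_centralizer_iff]
          exact fun b hb => h.2.1 b hb a ha
        · rw [Subgroup.zpowers_le, Subgroup.mem_centralizer_iff]
          exact hc
      apply sup_le h3
      rw [Subgroup.le_centralizer_iff]
      apply sup_le
      · intro a ha
        rw [Subgroup.mem_centralizer_iff]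
        rintro _ ⟨k, rfl⟩
        exact ((Commute.zpow_left (show Commute x a from (hc a ha).symm) k))
      · intro y hy
        rw [Subgroup.mem_centralizer_iff]
        obtain ⟨k, rfl⟩ := hy
        rintro _ ⟨l, rfl⟩
        exact (Commute.zpow_zpow_self x l k)
    intro a ha b hb
    exact (Subgroup.mem_centralizer_iff.1 (h2 hb) a ha)
  have h2 := h.2.2 _ (sup_le h.1 (by rw [Subgroup.zpowers_le]; exact hx)) h1
  have h3 : A = A ⊔ Subgroup.zpowers x := Subgroup.eq_of_le_of_card_ge le_sup_left h2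
  rw [h3]
  exact Subgroup.mem_sup_right (Subgroup.mem_zpowers x)

theorem Zs_le_LA {P A : Subgroup G} (h : LA P A) : Zs P ≤ A := fun x hx =>
  h.mem (Zs_le hx) fun a ha => (mem_Zs.1 hx).2 a (h.1 ha)

theorem ZJ_le_LA {P A : Subgroup G} (h : LA P A) : Zs (J P) ≤ A := fun x hx =>
  h.mem (J_le (Zs_le hx)) fun a ha => (mem_Zs.1 hx).2 a (le_J h ha)

theorem mem_ZJ {P : Subgroup G} {x : G} (h : ∀ A, LA P A → x ∈ A) : x ∈ Zs (J P) := by
  obtain ⟨A₀, hA₀⟩ := exists_LA P
  rw [mem_Zs]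
  refine ⟨le_J hA₀ (h A₀ hA₀), ?_⟩
  have h1 : J P ≤ Subgroup.centralizer {x} := by
    apply sSup_le
    intro A hA a ha
    rw [Subgroup.mem_centralizer_singleton_iff]
    exact hA.2.1 a ha x (h A hA)
  intro y hy
  exact Subgroup.mem_centralizer_singleton_iff.1 (h1 hy)

theorem Zs_le_ZJ {P : Subgroup G} : Zs P ≤ Zs (J P) := fun x hx => mem_ZJ fun A hA => Zs_le_LA hA hx

/-- subgroups of `P` containing one `LA` subgroup of `P` -/
theorem LA.of_le {P P' A B : Subgroup G} (hP : P' ≤ P) (hA : LA P A) (hAP : A ≤ P') (hB : LA P' B) : LA P B := by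
  refine ⟨hB.1.trans hP, hB.2.1, fun C hC hCa => (hA.2.2 C hC hCa).trans (hB.2.2 A hAP hA.2.1)⟩

theorem LA.to {P P' A : Subgroup G} (hP : P' ≤ P) (hA : LA P A) (hAP : A ≤ P') : LA P' A :=
  ⟨hAP, hA.2.1, fun B hB hBa => hA.2.2 B (hB.trans hP) hBa⟩

theorem LA.card_eq {P A B : Subgroup G} (hA : LA P A) (hB : LA P B) : Nat.card A = Nat.card B :=
  le_antisymm (hB.2.2 A hA.1 hA.2.1) (hA.2.2 B hB.1 hB.2.1)

/-- persistence of `J` -/
theorem J_eq_of_le {P P' : Subgroup G} (hP : P' ≤ P) (h : J P ≤ P') : J P' = J P := by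
  obtain ⟨A₀, hA₀⟩ := exists_LA P
  apply le_antisymm
  · apply sSup_le
    intro B hB
    exact le_J (hA₀.of_le hP ((le_J hA₀).trans h) hB)
  · apply sSup_le
    intro A hA
    exact le_J (hA.to hP ((le_J hA).trans h))

/-- persistence of `Jt` -/
theorem Jt_eq_of_le {P P' : Subgroup G} (hP : P' ≤ P) (h : Jt P ≤ P') : Jt P' = Jt P := by
  have h1 := J_eq_of_le hP (J_le_Jt.trans h)
  apply le_antisymm
  · intro x hx
    rw [mem_Jt] at hx ⊢
    rw [h1] at hx
    exact ⟨hP hx.1, hx.2⟩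
  · intro x hx
    rw [mem_Jt, h1]
    exact ⟨h hx, (mem_Jt.1 hx).2⟩

/-- persistence of `K` -/
theorem K_eq_of_le {P P' : Subgroup G} (hP : P' ≤ P) (h : Jt P ≤ P') : K P' = K P := by
  rw [K, K, Jt_eq_of_le hP h, J_eq_of_le hP (J_le_Jt.trans h)]

theorem J_ne_bot {P : Subgroup G} (h : P ≠ ⊥) : J P ≠ ⊥ := by
  intro hJ
  obtain ⟨A₀, hA₀⟩ := exists_LA P
  have h1 : A₀ = ⊥ := by rw [eq_bot_iff, ← hJ]; exact le_J hA₀
  obtain ⟨x, hx, hx1⟩ : ∃ x ∈ P, x ≠ 1 := by
    by_contra hcon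
    push Not at hcon
    exact h (by rw [eq_bot_iff]; exact fun x hx => (Subgroup.mem_bot).2 (hcon x hx))
  have h2 := hA₀.mem hx (fun a ha => by
    rw [h1, Subgroup.mem_bot] at ha; rw [ha, one_mul, mul_one])
  rw [h1, Subgroup.mem_bot] at h2
  exact hx1 h2

theorem K_ne_bot {P : Subgroup G} (h : P ≠ ⊥) : K P ≠ ⊥ := by
  rw [K]
  by_cases h1 : D (Jt P) = ⊥
  · rw [if_pos h1]; exact J_ne_bot h
  · rw [if_neg h1]; exact h1

theorem K_le {P : Subgroup G} : K P ≤ P := by
  rw [K]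
  by_cases h1 : D (Jt P) = ⊥
  · rw [if_pos h1]; exact J_le
  · rw [if_neg h1]
    apply sSup_le
    rintro _ ⟨R, hR, rfl⟩
    refine (Subgroup.commutator_le_self R).trans (hR.1.1.trans Jt_le)

end J

end Cfsg.Agent.H215.Fun
end

-- part: H215/Bad
section
/-!
# Irreducible modules with an `M`-invariant functional

`T` is a `p`-subgroup acting regularly on the points `≠ M` of `X / M`.  An irreducible nontrivial module `F` with
`[F, M] < F` satisfies `|C_F(T)| ≤ p` and (`p` odd) `|F| > p²`.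
-/

set_option autoImplicit false
set_option linter.unusedSectionVars false
set_option linter.unusedVariables false

namespace Cfsg.Agent.H215.Bad

open Cfsg.Agent.H263.FF.Basic

variable {X : Type*} [Group X] [Finite X] {F : Type*} [AddCommGroup F] [Finite F] [DistribMulAction X F]

/-- The hypotheses. -/
structure Hyp (p : ℕ) [Fact p.Prime] (T M : Subgroup X) (g₁ : X) (F : Type*) [AddCommGroup F] [DistribMulAction X F] :
    Prop where
  pT : IsPGroup p T
  Tne : T ≠ ⊥
  TM : T ≤ M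
  g₁M : g₁ ∉ M
  cov : ∀ x, x ∉ M → ∃ t ∈ T, ∃ m ∈ M, x = t * g₁ * m
  free : ∀ t ∈ T, g₁⁻¹ * t * g₁ ∈ M → t = 1
  pF : ∀ v : F, p • v = 0
  irr : ∀ N : AddSubgroup F, (∀ x : X, ∀ v ∈ N, x • v ∈ N) → N = ⊥ ∨ N = ⊤
  nt : ∃ (x : X) (v : F), x • v ≠ v
  bad : ∃ B : AddSubgroup F, B ≠ ⊤ ∧ ∀ m ∈ M, ∀ v : F, m • v - v ∈ B

variable {p : ℕ} [hp : Fact p.Prime] {T M : Subgroup X} {g₁ : X} (h : Hyp p T M g₁ F)

include h

theorem Hyp.exists_functional : ∃ l : F →+ ZMod p, (∃ v, l v ≠ 0) ∧ ∀ m ∈ M, ∀ v, l (m • v) = l v := by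
  obtain ⟨B, hB, hBM⟩ := h.bad
  have inst : Module (ZMod p) F := AddCommGroup.zmodModule h.pF
  have hlt : (AddSubgroup.toZModSubmodule p B : Submodule (ZMod p) F) < ⊤ := by
    rw [lt_top_iff_ne_top]
    intro e
    apply hB
    rw [eq_top_iff]
    intro v _
    have : v ∈ (AddSubgroup.toZModSubmodule p B : Submodule (ZMod p) F) := by rw [e]; trivial
    exact this
  obtain ⟨f, hf, hle⟩ := Submodule.exists_le_ker_of_lt_top _ hlt
  refine ⟨f.toAddMonoidHom, ?_, ?_⟩
  · by_contra hcon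
    push Not at hcon
    exact hf (LinearMap.ext hcon)
  · intro m hm v
    have h1 : m • v - v ∈ LinearMap.ker f := hle (hBM m hm v)
    rw [LinearMap.mem_ker, map_sub, sub_eq_zero] at h1
    exact h1

/-- the function on `X / M` -/
theorem Hyp.sum_zero {l : F →+ ZMod p} (hl : ∀ m ∈ M, ∀ v, l (m • v) = l v) [Fintype T] (v : F) :
    l v + ∑ t : T, l (g₁⁻¹ • ((t : X)⁻¹ • v)) = 0 := by
  classical
  have _ : Fintype (X ⧸ M) := Fintype.ofFinite _
  -- the function
  let f : F → X ⧸ M → ZMod p := fun v c => Quotient.liftOn' c (fun x => l (x⁻¹ • v)) (by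
    intro x y hxy
    rw [QuotientGroup.leftRel_apply] at hxy
    have h1 := hl _ hxy (y⁻¹ • v)
    rw [smul_smul, mul_assoc, mul_inv_cancel, mul_one] at h1
    exact h1)
  have hf : ∀ v x, f v (QuotientGroup.mk x) = l (x⁻¹ • v) := fun v x => rfl
  -- the points
  let pt : Option T → X ⧸ M := fun o => o.elim (QuotientGroup.mk 1) (fun t => QuotientGroup.mk ((t : X) * g₁))
  have hpt : Function.Bijective pt := by
    constructor
    · rintro (_ | t) (_ | s) hts
      · rfl
      · exfalso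
        have h1 : (QuotientGroup.mk 1 : X ⧸ M) = QuotientGroup.mk ((s : X) * g₁) := hts
        rw [QuotientGroup.eq, inv_one, one_mul] at h1
        exact h.g₁M ((Subgroup.mul_mem_cancel_left M (h.TM s.2)).1 h1)
      · exfalso
        have h1 : (QuotientGroup.mk ((t : X) * g₁) : X ⧸ M) = QuotientGroup.mk 1 := hts
        rw [eq_comm, QuotientGroup.eq, inv_one, one_mul] at h1
        exact h.g₁M ((Subgroup.mul_mem_cancel_left M (h.TM t.2)).1 h1)
      · have h1 : (QuotientGroup.mk ((t : X) * g₁) : X ⧸ M) = QuotientGroup.mk ((s : X) * g₁) := hts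
        rw [QuotientGroup.eq] at h1
        have h2 : g₁⁻¹ * ((t : X)⁻¹ * s) * g₁ ∈ M := by
          convert h1 using 1; group
        have h3 := h.free _ (mul_mem (inv_mem t.2) s.2) h2
        rw [inv_mul_eq_one] at h3
        rw [Subtype.ext h3]
    · intro c
      induction c using QuotientGroup.induction_on with
      | H x =>
        by_cases hx : x ∈ M
        · refine ⟨none, ?_⟩
          show (QuotientGroup.mk 1 : X ⧸ M) = QuotientGroup.mk x
          rw [QuotientGroup.eq, inv_one, one_mul]; exact hx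
        · obtain ⟨t, ht, m, hm, rfl⟩ := h.cov x hx
          refine ⟨some ⟨t, ht⟩, ?_⟩
          show (QuotientGroup.mk (t * g₁) : X ⧸ M) = QuotientGroup.mk (t * g₁ * m)
          rw [QuotientGroup.eq, inv_mul_cancel_left]; exact hm
  have hsum : ∀ v, ∑ c, f v c = l v + ∑ t : T, l (g₁⁻¹ • ((t : X)⁻¹ • v)) := by
    intro v
    rw [← Equiv.sum_comp (Equiv.ofBijective pt hpt) (f v), Fintype.sum_option]
    congr 1
    · show l ((1 : X)⁻¹ • v) = l v
      rw [inv_one, one_smul]
    · refine Finset.sum_congr rfl fun t _ => ?_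
      show l (((t : X) * g₁)⁻¹ • v) = _
      rw [mul_inv_rev, mul_smul]
  have hinv : ∀ (x : X) v, ∑ c, f (x • v) c = ∑ c, f v c := by
    intro x v
    rw [← Equiv.sum_comp (MulAction.toPerm x) (f (x • v))]
    refine Finset.sum_congr rfl fun c _ => ?_
    induction c using QuotientGroup.induction_on with
    | H y =>
      show l ((x * y)⁻¹ • (x • v)) = l (y⁻¹ • v)
      rw [mul_inv_rev, smul_smul, inv_mul_cancel_right]
  -- the kernel
  have hadd : ∀ v w, ∑ c, f (v + w) c = ∑ c, f v c + ∑ c, f w c := by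
    intro v w
    rw [← Finset.sum_add_distrib]
    refine Finset.sum_congr rfl fun c _ => ?_
    induction c using QuotientGroup.induction_on with
    | H y => rw [hf, hf, hf, smul_add, map_add]
  let φ : F →+ ZMod p :=
    { toFun := fun v => ∑ c, f v c
      map_zero' := by
        have := hadd 0 0
        rw [add_zero] at this
        exact left_eq_add.1 this
      map_add' := hadd }
  have hφ : ∀ v, φ v = ∑ c, f v c := fun v => rfl
  have hker : φ.ker = ⊤ := by
    refine (h.irr φ.ker fun x v hv => ?_).resolve_left fun e => ?_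
    · rw [AddMonoidHom.mem_ker, hφ, hinv, ← hφ]; exact hv
    · obtain ⟨x, v, hv⟩ := h.nt
      apply hv
      have h1 : x • v - v ∈ φ.ker := by
        rw [AddMonoidHom.mem_ker, map_sub, hφ, hφ, hinv, sub_self]
      rw [e, AddSubgroup.mem_bot, sub_eq_zero] at h1
      exact h1
  rw [← hsum, ← hφ, ← AddMonoidHom.mem_ker, hker]
  trivial

/-- `p` divides `|T|` -/
theorem Hyp.card_T : (Nat.card T : ZMod p) = 0 := by
  rw [ZMod.natCast_eq_zero_iff]
  obtain ⟨n, hn⟩ := IsPGroup.iff_card.1 h.pT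
  rw [hn]
  have hn0 : n ≠ 0 := by
    rintro rfl
    rw [pow_zero] at hn
    exact h.Tne (Subgroup.card_eq_one.1 hn)
  exact dvd_pow_self p hn0

/-- `|C_F(T)| ≤ p` -/
theorem Hyp.card_fx : Nat.card (fx F T) ≤ p := by
  classical
  have _ : Fintype T := Fintype.ofFinite _
  obtain ⟨l, ⟨v₀, hv₀⟩, hl⟩ := h.exists_functional
  have h1 : ∀ v ∈ fx F T, l v = 0 := by
    intro v hv
    have h2 := h.sum_zero hl v
    have h3 : ∀ t : T, l (g₁⁻¹ • ((t : X)⁻¹ • v)) = l (g₁⁻¹ • v) := fun t => by rw [hv _ (inv_mem t.2)]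
    rw [Finset.sum_congr rfl fun t _ => h3 t, Finset.sum_const, Finset.card_univ, ← Nat.card_eq_fintype_card,
      nsmul_eq_mul, h.card_T, zero_mul, add_zero] at h2
    exact h2
  have hinj : Function.Injective (fun v : fx F T => l (g₁⁻¹ • (v : F))) := by
    intro v w hvw
    have h2 : l (g₁⁻¹ • ((v : F) - w)) = 0 := by
      rw [smul_sub, map_sub, sub_eq_zero]; exact hvw
    have hm : (v : F) - w ∈ fx F T := (fx F T).sub_mem v.2 w.2
    -- the invariant subgroup
    let N : AddSubgroup F :=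
      { carrier := {u | ∀ x : X, l (x • u) = 0}
        zero_mem' := fun x => by rw [smul_zero, map_zero]
        add_mem' := fun {a b} ha hb x => by rw [smul_add, map_add, ha, hb, add_zero]
        neg_mem' := fun {a} ha x => by rw [smul_neg, map_neg, ha, neg_zero] }
    have hN : N = ⊥ := by
      refine (h.irr N fun x u hu y => ?_).resolve_right fun e => ?_
      · rw [smul_smul]; exact hu _
      · apply hv₀
        have : v₀ ∈ N := by rw [e]; trivial
        have := this 1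
        rwa [one_smul] at this
    have h3 : (v : F) - w ∈ N := by
      intro x
      by_cases hx : x⁻¹ ∈ M
      · rw [hl x ((inv_mem_iff).1 hx)]
        exact h1 _ hm
      · obtain ⟨t, ht, m, hm', e⟩ := h.cov _ hx
        have e' : x = m⁻¹ * (g₁⁻¹ * t⁻¹) := by rw [← inv_inv x, e]; group
        rw [e', mul_smul, mul_smul, hl _ (inv_mem hm'), hm _ (inv_mem ht)]
        exact h2
    rw [hN, AddSubgroup.mem_bot, sub_eq_zero] at h3
    exact Subtype.ext h3
  have := Nat.card_le_card_of_injective _ hinj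
  rwa [Nat.card_zmod] at this

/-- `|F| > p²` for odd `p` -/
theorem Hyp.card_gt (hp2 : p ≠ 2) : p ^ 2 < Nat.card F := by
  classical
  have _ : Fintype T := Fintype.ofFinite _
  obtain ⟨l, ⟨v₀, hv₀⟩, hl⟩ := h.exists_functional
  by_contra hcon
  push Not at hcon
  have hF : ¬ (⊤ : AddSubgroup F) ≤ ⊥ := by
    intro e
    have : v₀ ∈ (⊥ : AddSubgroup F) := e (AddSubgroup.mem_top _)
    rw [AddSubgroup.mem_bot] at this
    exact hv₀ (by rw [this, map_zero])
  have hcd : ∀ {H K : AddSubgroup F}, H < K → p * Nat.card H ≤ Nat.card K := by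
    intro H K hHK
    have h1 := card_mul_relIndex hHK.le
    have h2 : p ∣ H.relIndex K := by
      have h3 : H.relIndex K ≠ 1 := by
        intro e
        exact hHK.not_ge (AddSubgroup.relIndex_eq_one.1 e)
      have h4 : ∃ k, Nat.card F = p ^ k := by
        have hpg : IsPGroup p (Multiplicative F) := fun x => ⟨1, by
          rw [pow_one]
          exact congrArg Multiplicative.ofAdd (h.pF (Multiplicative.toAdd x))⟩
        have h5 : ∃ n, Nat.card (Multiplicative F) = p ^ n := IsPGroup.iff_card.1 hpg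
        exact h5
      obtain ⟨k, hk⟩ := h4
      have h5 : H.relIndex K ∣ p ^ k := by
        rw [← hk]
        refine (Dvd.intro_left _ h1).trans ?_
        exact AddSubgroup.card_addSubgroup_dvd_card K
      obtain ⟨i, -, hi⟩ := (Nat.dvd_prime_pow hp.out).1 h5
      rw [hi] at h3 ⊢
      have hi0 : i ≠ 0 := by rintro rfl; exact h3 (pow_zero p)
      exact dvd_pow_self p hi0
    have h3 : 0 < H.relIndex K := by
      refine Nat.pos_of_ne_zero fun e => ?_
      rw [e, mul_zero] at h1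
      exact (card_pos K).ne h1
    calc p * Nat.card H = Nat.card H * p := mul_comm _ _
      _ ≤ Nat.card H * H.relIndex K := Nat.mul_le_mul_left _ (Nat.le_of_dvd h3 h2)
      _ = _ := h1
  -- `[F, T] ≤ C_F(T)`
  have hquad : ∀ v : F, ∀ t ∈ T, t • v - v ∈ fx F T := by
    obtain ⟨v₁, -, hv₁, hv₁'⟩ := exists_fixed h.pT h.pF (H := ⊤) (K := ⊥)
      (fun t _ v hv => by rw [AddSubgroup.mem_bot] at hv ⊢; rw [hv, smul_zero]) (fun _ _ _ _ => AddSubgroup.mem_top _) bot_le hF
    have hC : (⊥ : AddSubgroup F) < fx F T := by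
      rw [bot_lt_iff_ne_bot]
      intro e
      apply hv₁
      rw [← e]
      intro t ht
      have := hv₁' t ht
      rw [AddSubgroup.mem_bot, sub_eq_zero] at this
      exact this
    have hCc := hcd hC
    rw [AddSubgroup.card_bot, mul_one] at hCc
    by_cases hCt : (⊤ : AddSubgroup F) ≤ fx F T
    · intro v t ht
      exact hCt (AddSubgroup.mem_top _)
    · have hCinv : ∀ t ∈ T, ∀ v ∈ fx F T, t • v ∈ fx F T := fun t ht v hv => by rw [hv t ht]; exact hv
      obtain ⟨v₂, -, hv₂, hv₂'⟩ := exists_fixed h.pT h.pF (H := ⊤) (K := fx F T) hCinv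
        (fun _ _ _ _ => AddSubgroup.mem_top _) le_top hCt
      let D : AddSubgroup F :=
        { carrier := {v | ∀ t ∈ T, t • v - v ∈ fx F T}
          zero_mem' := fun t ht => by rw [smul_zero, sub_zero]; exact zero_mem _
          add_mem' := fun {a b} ha hb t ht => by
            have := (fx F T).add_mem (ha t ht) (hb t ht)
            rw [smul_add]; convert this using 1; abel
          neg_mem' := fun {a} ha t ht => by
            have := (fx F T).neg_mem (ha t ht)
            rw [smul_neg]; convert this using 1; abel }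
      have hCD : fx F T < D := by
        refine lt_of_le_of_ne (fun v hv t ht => ?_) fun e => hv₂ ?_
        · rw [hv t ht, sub_self]; exact zero_mem _
        · rw [e]; exact hv₂'
      have h3 := hcd hCD
      have h4 : D = ⊤ := by
        apply eq_of_card_le le_top
        rw [card_top]
        calc Nat.card F ≤ p ^ 2 := hcon
          _ = p * p := sq p
          _ ≤ p * Nat.card (fx F T) := Nat.mul_le_mul_left _ hCc
          _ ≤ _ := h3
      intro v t ht
      have : v ∈ D := by rw [h4]; trivial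
      exact this t ht
  -- the sum is zero
  have hsum : ∀ v : F, ∑ t : T, (t : X)⁻¹ • v = 0 := by
    intro v
    let k : T → F := fun t => (t : X) • v - v
    have hk : ∀ t : T, k t⁻¹ = - k t := by
      intro t
      have h1 := hquad v t t.2
      have h2 := h1 _ (inv_mem t.2)
      rw [smul_sub, inv_smul_smul] at h2
      show ((t⁻¹ : T) : X) • v - v = -((t : X) • v - v)
      rw [← h2, Subgroup.coe_inv]; abel
    have h1 : ∑ t : T, k t⁻¹ = ∑ t : T, k t := Equiv.sum_comp (Equiv.inv T) k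
    have h2 : ∑ t : T, k t⁻¹ = - ∑ t : T, k t := by
      rw [Finset.sum_congr rfl fun t _ => hk t, Finset.sum_neg_distrib]
    have h3 : ∑ t : T, k t⁻¹ = 0 := by
      have h4 : 2 • ∑ t : T, k t⁻¹ = 0 := by
        rw [two_smul]; nth_rewrite 1 [h1]; rw [h2, add_neg_cancel]
      have h5 := h.pF (∑ t : T, k t⁻¹)
      have hco : Nat.Coprime 2 p := (Nat.coprime_primes Nat.prime_two hp.out).2 (Ne.symm hp2)
      have h6 : addOrderOf (∑ t : T, k t⁻¹) ∣ 1 := by
        have h7 := Nat.dvd_gcd (addOrderOf_dvd_of_nsmul_eq_zero h4) (addOrderOf_dvd_of_nsmul_eq_zero h5)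
        rwa [hco] at h7
      exact AddMonoid.addOrderOf_eq_one_iff.1 (Nat.dvd_one.1 h6)
    have h4 : ∑ t : T, (t : X)⁻¹ • v = ∑ t : T, (k t⁻¹ + v) := by
      refine Finset.sum_congr rfl fun t _ => ?_
      show _ = ((t⁻¹ : T) : X) • v - v + v
      rw [Subgroup.coe_inv]; abel
    rw [h4, Finset.sum_add_distrib, h3, zero_add, Finset.sum_const, Finset.card_univ, ← Nat.card_eq_fintype_card]
    have h5 := h.card_T
    rw [ZMod.natCast_eq_zero_iff] at h5
    obtain ⟨c, hc⟩ := h5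
    rw [hc, mul_comm, mul_smul, h.pF, smul_zero]
  apply hv₀
  have h1 := h.sum_zero hl v₀
  have h2 : ∑ t : T, l (g₁⁻¹ • ((t : X)⁻¹ • v₀)) = l (g₁⁻¹ • ∑ t : T, (t : X)⁻¹ • v₀) := by
    rw [Finset.smul_sum, map_sum]
  rw [h2, hsum, smul_zero, map_zero, add_zero] at h1
  exact h1

end Cfsg.Agent.H215.Bad
end

-- part: H215/Act
section
/-!
# Actions by conjugation on abelian sections; the quotient by the kernel
-/

set_option autoImplicit false
set_option linter.unusedSectionVars false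
set_option linter.unusedVariables false

namespace Cfsg.Agent.H215.Act

open Cfsg.Agent.H263.FF.Basic

/-! ### the quotient by the kernel -/

section ker

variable (G : Type*) [Group G] (F : Type*) [AddCommGroup F] [DistribMulAction G F]

/-- the kernel of the action -/
def kerF : Subgroup G where
  carrier := {g | ∀ v : F, g • v = v}
  one_mem' := fun v => one_smul _ v
  mul_mem' := fun {a b} ha hb v => by rw [mul_smul, hb, ha]
  inv_mem' := fun {a} ha v => by rw [inv_smul_eq_iff, ha]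

instance : (kerF G F).Normal := ⟨fun n hn g v => by rw [mul_smul, mul_smul, hn, smul_inv_smul]⟩

instance : DistribMulAction (G ⧸ kerF G F) F where
  smul q v := Quotient.liftOn' q (fun g => g • v) (by
    intro a b hab
    rw [QuotientGroup.leftRel_apply] at hab
    have := hab v
    rw [mul_smul, inv_smul_eq_iff] at this
    exact this.symm)
  one_smul v := one_smul G v
  mul_smul x y v := by
    induction x using QuotientGroup.induction_on with
    | H a =>
      induction y using QuotientGroup.induction_on with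
      | H b => exact mul_smul a b v
  smul_zero x := by
    induction x using QuotientGroup.induction_on with
    | H a => exact smul_zero a
  smul_add x v w := by
    induction x using QuotientGroup.induction_on with
    | H a => exact smul_add a v w

/-- the projection -/
def pr : G →* G ⧸ kerF G F := QuotientGroup.mk' (kerF G F)

variable {G F}

theorem pr_smul (g : G) (v : F) : pr G F g • v = g • v := rfl

theorem pr_surj : Function.Surjective (pr G F) := QuotientGroup.mk'_surjective _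

theorem pr_eq_one {g : G} : pr G F g = 1 ↔ ∀ v : F, g • v = v := QuotientGroup.eq_one_iff g

theorem pr_faithful (x : G ⧸ kerF G F) (h : ∀ v : F, x • v = v) : x = 1 := by
  induction x using QuotientGroup.induction_on with
  | H a => exact pr_eq_one.2 h

theorem fx_map (A : Subgroup G) : fx F (A.map (pr G F)) = fx F A := by
  ext v
  constructor
  · intro h a ha
    exact h _ ⟨a, ha, rfl⟩
  · rintro h _ ⟨a, ha, rfl⟩
    exact h a ha

end ker

/-! ### the conjugation module -/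

section conj

variable {G G' : Type*} [Group G] [Group G']

/-- abelian and invariant -/
def Inv (f : G →* G') (V : Subgroup G') : Prop :=
  (∀ a ∈ V, ∀ b ∈ V, a * b = b * a) ∧ ∀ g : G, ∀ v ∈ V, f g * v * (f g)⁻¹ ∈ V

/-- the abelian group `V` as a module for `G` acting through `f` by conjugation -/
def Md (f : G →* G') (V : Subgroup G') (_ : Inv f V) : Type _ := Additive ↥V

variable {f : G →* G'} {V : Subgroup G'} {h : Inv f V}

instance : AddCommGroup (Md f V h) :=
  { (inferInstance : AddGroup (Additive ↥V)) with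
    add_comm := fun a b => congrArg Additive.ofMul (Subtype.ext (h.1 (Additive.toMul a : ↥V) (Additive.toMul a).2
      (Additive.toMul b : ↥V) (Additive.toMul b).2)) }

instance [Finite G'] : Finite (Md f V h) := inferInstanceAs (Finite ↥V)

/-- the underlying element -/
def Md.val (v : Md f V h) : G' := ((Additive.toMul v : ↥V) : G')

theorem Md.val_mem (v : Md f V h) : v.val ∈ V := (Additive.toMul v).2

/-- the element of the module -/
def Md.mk (f : G →* G') (h : Inv f V) {g : G'} (hg : g ∈ V) : Md f V h := Additive.ofMul ⟨g, hg⟩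

theorem Md.val_mk {g : G'} (hg : g ∈ V) : (Md.mk f h hg).val = g := rfl

theorem Md.val_inj {v w : Md f V h} (e : v.val = w.val) : v = w :=
  congrArg Additive.ofMul (Subtype.ext e : (Additive.toMul v : ↥V) = Additive.toMul w)

theorem Md.val_add (v w : Md f V h) : (v + w).val = v.val * w.val := rfl
theorem Md.val_zero : (0 : Md f V h).val = 1 := rfl
theorem Md.val_neg (v : Md f V h) : (-v).val = (v.val)⁻¹ := rfl
theorem Md.val_sub (v w : Md f V h) : (v - w).val = v.val * (w.val)⁻¹ := by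
  rw [sub_eq_add_neg, Md.val_add, Md.val_neg]

theorem Md.val_nsmul (n : ℕ) (v : Md f V h) : (n • v).val = v.val ^ n := by
  induction n with
  | zero => rw [zero_smul, pow_zero]; rfl
  | succ n ih => rw [succ_nsmul, Md.val_add, ih, pow_succ]

instance : DistribMulAction G (Md f V h) where
  smul x v := Md.mk f h (h.2 x v.val v.val_mem)
  one_smul v := Md.val_inj (by
    show f 1 * v.val * (f 1)⁻¹ = v.val
    simp)
  mul_smul x y v := Md.val_inj (by
    show f (x * y) * v.val * (f (x * y))⁻¹ = f x * (f y * v.val * (f y)⁻¹) * (f x)⁻¹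
    rw [map_mul]; group)
  smul_zero x := Md.val_inj (by
    show f x * 1 * (f x)⁻¹ = 1
    simp)
  smul_add x v w := Md.val_inj (by
    show f x * (v.val * w.val) * (f x)⁻¹ = (f x * v.val * (f x)⁻¹) * (f x * w.val * (f x)⁻¹)
    group)

theorem Md.val_smul (x : G) (v : Md f V h) : (x • v).val = f x * v.val * (f x)⁻¹ := rfl

theorem Md.smul_eq_iff (x : G) (v : Md f V h) : x • v = v ↔ f x * v.val = v.val * f x := by
  constructor
  · intro e
    have h1 := congrArg Md.val e
    rw [Md.val_smul, mul_inv_eq_iff_eq_mul] at h1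
    exact h1
  · intro e
    apply Md.val_inj
    rw [Md.val_smul, mul_inv_eq_iff_eq_mul]
    exact e

theorem Md.ext_zero {v : Md f V h} : v = 0 ↔ v.val = 1 :=
  ⟨fun e => by rw [e]; rfl, fun e => Md.val_inj e⟩

end conj

/-! ### irreducible modules with an `M`-invariant functional for `G` -/

open Cfsg.Agent.H215.Bad in
theorem bad_G {G : Type*} [Group G] [Finite G] {p : ℕ} [hp : Fact p.Prime] (hp2 : p ≠ 2) {S M Q : Subgroup G}
    (hS : IsPGroup p S) [hQn : Q.Normal] (hQS : Q ≤ S) (hSQ : ¬ S ≤ Q) (hSM : S ≤ M) (hM : M ≠ ⊤)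
    (hmax : ∀ H : Subgroup G, S ≤ H → H ≠ ⊤ → H ≤ M)
    (cov : ∀ g₁, g₁ ∉ M → ∀ x, x ∉ M → ∃ s ∈ S, ∃ m ∈ M, x = s * g₁ * m)
    (free : ∀ g₁, g₁ ∉ M → ∀ s ∈ S, g₁⁻¹ * s * g₁ ∈ M → s ∈ Q)
    {F : Type*} [AddCommGroup F] [Finite F] [DistribMulAction G F] (pF : ∀ v : F, p • v = 0)
    (irr : ∀ N : AddSubgroup F, (∀ x : G, ∀ v ∈ N, x • v ∈ N) → N = ⊥ ∨ N = ⊤)
    (nt : ∃ (x : G) (v : F), x • v ≠ v)
    (bad : ∃ B : AddSubgroup F, B ≠ ⊤ ∧ ∀ m ∈ M, ∀ v : F, m • v - v ∈ B) :
    (∀ q ∈ Q, ∀ v : F, q • v = v) ∧ Nat.card (fx F S) ≤ p ∧ p ^ 2 < Nat.card F := by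
  have hF : ¬ (⊤ : AddSubgroup F) ≤ ⊥ := by
    intro e
    obtain ⟨x, v, hv⟩ := nt
    have h1 : v = 0 := (AddSubgroup.mem_bot).1 (e (AddSubgroup.mem_top v))
    exact hv (by rw [h1, smul_zero])
  have hfixne : ∀ P : Subgroup G, IsPGroup p P → fx F P ≠ ⊥ := by
    intro P hP e
    obtain ⟨v, -, hv, hv'⟩ := exists_fixed hP pF (H := ⊤) (K := ⊥)
      (fun t _ v hv => by rw [AddSubgroup.mem_bot] at hv ⊢; rw [hv, smul_zero])
      (fun _ _ _ _ => AddSubgroup.mem_top _) bot_le hF
    apply hv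
    rw [← e]
    intro t ht
    have := hv' t ht
    rwa [AddSubgroup.mem_bot, sub_eq_zero] at this
  -- `Q` acts trivially
  have hQ : ∀ q ∈ Q, ∀ v : F, q • v = v := by
    have h1 : fx F Q = ⊤ := by
      refine (irr (fx F Q) fun x v hv q hq => ?_).resolve_left (hfixne Q (hS.to_le hQS))
      have h2 := hv _ (hQn.conj_mem q hq x⁻¹)
      rw [inv_inv, mul_smul, mul_smul, inv_smul_eq_iff] at h2
      exact h2
    intro q hq v
    have : v ∈ fx F Q := by rw [h1]; trivial
    exact this q hq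
  refine ⟨hQ, ?_⟩
  -- the kernel lies in `M`
  have hKM : kerF G F ≤ M := by
    by_contra hcon
    have h1 : kerF G F ⊔ S = ⊤ := by
      by_contra h2
      exact hcon (le_sup_left.trans (hmax _ le_sup_right h2))
    have h2 : fx F S = fx F (⊤ : Subgroup G) := by
      rw [← h1, fx_sup]
      refine (inf_eq_right.2 ?_).symm
      intro v _ k hk
      exact hk v
    have h3 : fx F S = ⊤ := by
      refine (irr (fx F S) fun x v hv => ?_).resolve_left (hfixne S hS)
      rw [h2] at hv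
      rw [h2, hv x trivial]; exact hv
    obtain ⟨x, v, hv⟩ := nt
    apply hv
    have h4 : v ∈ fx F (⊤ : Subgroup G) := by rw [← h2, h3]; trivial
    exact h4 x trivial
  obtain ⟨g₁, hg₁⟩ : ∃ g, g ∉ M := by
    by_contra hcon
    push Not at hcon
    exact hM (by rw [eq_top_iff]; exact fun x _ => hcon x)
  have hπM : ∀ x, pr G F x ∈ M.map (pr G F) → x ∈ M := by
    rintro x ⟨m, hm, e⟩
    have h1 : m⁻¹ * x ∈ kerF G F := by
      have h2 : pr G F (m⁻¹ * x) = 1 := by rw [map_mul, map_inv, e, inv_mul_cancel]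
      exact pr_eq_one.1 h2
    have h3 := mul_mem hm (hKM h1)
    rwa [mul_inv_cancel_left] at h3
  have hyp : Hyp p (S.map (pr G F)) (M.map (pr G F)) (pr G F g₁) F :=
    { pT := hS.map _
      Tne := by
        intro e
        apply hSQ
        intro s hs
        have h1 : S ≤ kerF G F := by
          intro t ht
          have h2 : pr G F t ∈ S.map (pr G F) := ⟨t, ht, rfl⟩
          rw [e, Subgroup.mem_bot] at h2
          exact pr_eq_one.1 h2
        apply free g₁ hg₁ s hs
        have h2 := (inferInstance : (kerF G F).Normal).conj_mem s (h1 hs) g₁⁻¹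
        rw [inv_inv] at h2
        exact hKM h2
      TM := Subgroup.map_mono hSM
      g₁M := fun h1 => hg₁ (hπM _ h1)
      cov := by
        intro x hx
        obtain ⟨x, rfl⟩ := pr_surj x
        have hx' : x ∉ M := fun h1 => hx ⟨x, h1, rfl⟩
        obtain ⟨s, hs, m, hm, rfl⟩ := cov g₁ hg₁ x hx'
        exact ⟨_, ⟨s, hs, rfl⟩, _, ⟨m, hm, rfl⟩, by rw [map_mul, map_mul]⟩
      free := by
        rintro _ ⟨s, hs, rfl⟩ h1
        rw [← map_inv, ← map_mul, ← map_mul] at h1
        exact pr_eq_one.2 (hQ s (free g₁ hg₁ s hs (hπM _ h1)))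
      pF := pF
      irr := by
        intro N hN
        exact irr N fun x v hv => hN (pr G F x) v hv
      nt := by
        obtain ⟨x, v, hv⟩ := nt
        exact ⟨pr G F x, v, hv⟩
      bad := by
        obtain ⟨B, hB, hB'⟩ := bad
        refine ⟨B, hB, ?_⟩
        rintro _ ⟨m, hm, rfl⟩ v
        exact hB' m hm v }
  refine ⟨?_, hyp.card_gt hp2⟩
  have := hyp.card_fx
  rwa [fx_map] at this

end Cfsg.Agent.H215.Act
end

-- part: H215/Line
section
/-!
# Elements of `T` on the lines `C_{[V, z_i]}(A_i)`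
-/

set_option autoImplicit false
set_option linter.unusedSectionVars false
set_option linter.unusedVariables false

namespace Cfsg.Agent.H215.Line

open Cfsg.Agent.H263.FF.Basic Cfsg.Agent.H263.FF.Setup Cfsg.Agent.H263.FF.Odd Cfsg.Agent.H263.FF.OddNat

/-! ### a lemma on fields -/

theorem field_lemma {F : Type*} [Field F] (h2 : (2 : F) ≠ 0) (τ α c : F → F)
    (hadd : ∀ x y, τ (x + y) = τ x + τ y) (hinj : ∀ x, τ x = 0 → x = 0)
    (hmul : ∀ b y, τ (b * y) = α b * c y) (hq : ∀ x, τ (τ x - x) = τ x - x) : ∀ x, τ x = x := by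
  by_contra hcon
  push Not at hcon
  obtain ⟨x, hx⟩ := hcon
  have hs : ∀ x y, τ (x - y) = τ x - τ y := by
    intro x y
    have := hadd (x - y) y
    rw [sub_add_cancel] at this
    rw [this]; ring
  set x₀ := τ x - x with hx₀
  have hx₀0 : x₀ ≠ 0 := sub_ne_zero.2 hx
  have hτx₀ : τ x₀ = x₀ := hq x
  have h1 : τ 1 ≠ 0 := fun e => one_ne_zero (hinj 1 e)
  have hm : ∀ b y, τ (b * y) * τ 1 = τ b * τ y := by
    intro b y
    have e1 := hmul b 1
    have e2 := hmul 1 y
    have e3 := hmul 1 1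
    rw [mul_one] at e1 e3
    rw [one_mul] at e2
    rw [hmul, e1, e2, e3]; ring
  set σ : F → F := fun l => τ l * (τ 1)⁻¹ with hσ
  have hσ' : ∀ l, τ l = σ l * τ 1 := fun l => by rw [hσ]; field_simp
  have hσm : ∀ b y, σ (b * y) = σ b * σ y := by
    intro b y
    have := hm b y
    rw [hσ] at *
    field_simp
    linear_combination this
  have hσs : ∀ b y, σ (b - y) = σ b - σ y := by
    intro b y
    simp only [hσ, hs]; ring
  have hσa : ∀ b y, σ (b + y) = σ b + σ y := by
    intro b y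
    simp only [hσ, hadd]; ring
  have hσx : ∀ l, τ (l * x₀) = σ l * x₀ := by
    intro l
    have := hm l x₀
    rw [hτx₀, hσ' l] at this
    have h3 : (τ (l * x₀) - σ l * x₀) * τ 1 = 0 := by linear_combination this
    rcases mul_eq_zero.1 h3 with h4 | h4
    · exact sub_eq_zero.1 h4
    · exact absurd h4 h1
  have hfix : ∀ l, σ (σ l - l) = σ l - l := by
    intro l
    have h3 := hq (l * x₀)
    rw [hσx, ← sub_mul, hσx] at h3
    exact mul_right_cancel₀ hx₀0 h3
  have hσid : ∀ l, σ l = l := by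
    intro l
    set c₀ := σ l - l with hc
    have hc1 : σ l = l + c₀ := by rw [hc]; ring
    have hc2 : σ c₀ = c₀ := hfix l
    have h3 := hfix (l * l)
    rw [hσm, hc1] at h3
    have e : (l + c₀) * (l + c₀) - l * l = c₀ * l + c₀ * l + c₀ * c₀ := by ring
    rw [e, hσa, hσa, hσm, hσm, hc1, hc2] at h3
    have h4 : 2 * (c₀ * c₀) = 0 := by linear_combination h3
    rcases mul_eq_zero.1 h4 with h5 | h5
    · exact absurd h5 h2
    · have h6 : c₀ = 0 := by simpa using h5
      rw [hc1, h6, add_zero]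
  have h3 := hσx 1
  rw [one_mul, hσid, hτx₀] at h3
  have h4 := hσ' x₀
  rw [hσid, hτx₀] at h4
  have h5 : τ 1 = 1 := by
    have : x₀ * (τ 1 - 1) = 0 := by linear_combination -h4
    rcases mul_eq_zero.1 this with h6 | h6
    · exact absurd h6 hx₀0
    · exact sub_eq_zero.1 h6
  have h6 := hσ' x
  rw [hσid, h5, mul_one] at h6
  exact hx h6

variable {p : ℕ} [hp : Fact p.Prime]
variable {X : Type*} [Group X] [Finite X] {V : Type*} [AddCommGroup V] [Finite V] [DistribMulAction X V]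
variable {pt : Sylow p X → Subgroup X} {𝒟 : Set (Subgroup X)}
variable {T : Sylow p X} {r : ℕ} {A L : Fin r → Subgroup X} {z : Fin r → X}

/-- the line -/
def ln (V : Type*) [AddCommGroup V] [DistribMulAction X V] (A : Fin r → Subgroup X) (z : Fin r → X) (i : Fin r) :
    AddSubgroup V := fx V (A i) ⊓ ng V (z i)

theorem smul_mem_ng {t a b : X} (h : t * a * t⁻¹ = b) {v : V} (hv : v ∈ ng V a) : t • v ∈ ng V b := by
  rw [mem_ng, ← h, mul_smul, mul_smul, inv_smul_smul, mem_ng.1 hv, smul_neg]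

section

variable (h2 : ∀ v : V, p • v = 0) (hp2 : p ≠ 2) (o : Out p V pt 𝒟 T r A L z)
include h2 hp2 o

theorem ng_disj {i j : Fin r} (hij : i ≠ j) {v : V} (hv : v ∈ ng V (z i)) (hv' : v ∈ ng V (z j)) : v = 0 := by
  exact (o.isZ j).inf h2 hp2 (o.ngfx i j hij hv) hv'

theorem eq_zero_of_double {v : V} (h : v + v = 0) : v = 0 := by
  have h3 : v + v ∈ (⊥ : AddSubgroup V) := by rw [h]; exact zero_mem _
  exact (AddSubgroup.mem_bot).1 (half_mem h2 hp2 h3)

theorem exists_ne (i : Fin r) : ∃ v ∈ ln V A z i, v ≠ 0 := by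
  obtain ⟨F, hF, hFt, hcard, ρ, e, hn, hl⟩ := o.nat i
  refine ⟨(e.symm ![1, 0] : ng V (z i)), ⟨(hl (e.symm ![1, 0])).2 ?_, (e.symm ![1, 0]).2⟩, ?_⟩
  · rw [AddEquiv.apply_symm_apply]; rfl
  · intro h
    have h3 : (e.symm ![1, 0] : ng V (z i)) = 0 := Subtype.ext h
    have h4 : (![1, 0] : Fin 2 → F) = 0 := by rw [← e.apply_symm_apply ![1, 0], h3, map_zero]
    exact one_ne_zero (congrFun h4 0)

theorem inj_z {i j : Fin r} (h : z i = z j) : i = j := by
  by_contra hij
  obtain ⟨v, hv, hv0⟩ := exists_ne h2 hp2 o i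
  exact hv0 (ng_disj h2 hp2 o hij hv.2 (by rw [← h]; exact hv.2))

theorem smul_ln {t : X} {i j : Fin r} (hA : cj t (A i) = A j) (hz : t * z i * t⁻¹ = z j) {v : V} (hv : v ∈ ln V A z i) :
    t • v ∈ ln V A z j := by
  refine ⟨?_, smul_mem_ng hz hv.2⟩
  rw [← hA]; exact smul_mem_fx_cj hv.1

/-- an element which is quadratic on the lines fixes the lines -/
theorem fix_of_quad {t : X} (ht : t ∈ T) (hq : ∀ i, ∀ v ∈ ln V A z i, t • (t • v - v) = t • v - v) (i : Fin r) :
    cj t (A i) = A i ∧ cj t (L i) = L i ∧ t * z i * t⁻¹ = z i := by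
  obtain ⟨j, h1, h3, h4⟩ := o.cjT t ht i
  by_cases hij : i = j
  · subst hij; exact ⟨h1, h3, h4⟩
  exfalso
  obtain ⟨v, hv, hv0⟩ := exists_ne h2 hp2 o i
  obtain ⟨k, h5, h6, h7⟩ := o.cjT t ht j
  have hkj : k ≠ j := by
    rintro rfl
    apply hij
    apply o.injA
    exact cj_inj (h1.trans h5.symm)
  have htv : t • v ∈ ng V (z j) := smul_mem_ng h4 hv.2
  have httv : t • (t • v) ∈ ng V (z k) := smul_mem_ng h7 htv
  have e1 : z j • v = v := o.ngfx i j hij hv.2 _ (o.isZ j).mem
  have e2 : z j • (t • (t • v)) = t • (t • v) := o.ngfx k j hkj httv _ (o.isZ j).mem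
  have e3 : z j • (t • v) = -(t • v) := mem_ng.1 htv
  have e4 := hq i v hv
  rw [smul_sub, sub_eq_iff_eq_add] at e4
  have e5 := congrArg (fun w => z j • w) e4
  simp only [smul_sub, smul_add] at e5
  rw [e1, e2, e3] at e5
  rw [e4] at e5
  have e6 : (t • v + t • v) + (t • v + t • v) = 0 := by
    have : (t • v - v + t • v) - (-(t • v) - v + -(t • v)) = 0 := sub_eq_zero.2 e5
    rw [← this]; abel
  have e7 := eq_zero_of_double h2 hp2 o (eq_zero_of_double h2 hp2 o e6)
  exact hv0 ((smul_eq_zero_iff_eq t).1 e7)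

/-- an element which fixes the line pointwise fixes its index -/
theorem fix_of_trivial {t : X} (ht : t ∈ T) {i : Fin r} (hq : ∀ v ∈ ln V A z i, t • v = v) :
    cj t (A i) = A i ∧ cj t (L i) = L i ∧ t * z i * t⁻¹ = z i := by
  obtain ⟨j, h1, h3, h4⟩ := o.cjT t ht i
  by_cases hij : i = j
  · subst hij; exact ⟨h1, h3, h4⟩
  exfalso
  obtain ⟨v, hv, hv0⟩ := exists_ne h2 hp2 o i
  apply hv0
  apply ng_disj h2 hp2 o hij hv.2
  rw [← hq v hv]
  exact smul_mem_ng h4 hv.2

end

section Nat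

variable {F : Type} [Field F] [Fintype F] {i : Fin r} {ρ : ↥(L i) ≃* Matrix.SpecialLinearGroup (Fin 2) F}
  {e : ↥(ng V (z i)) ≃+ (Fin 2 → F)}

/-- `2 ≠ 0` in `F` -/
theorem char_F (h2 : ∀ v : V, p • v = 0) (e : ↥(ng V (z i)) ≃+ (Fin 2 → F)) : (p : F) = 0 := by
  have h1 : p • (e.symm ![1, 0] : ↥(ng V (z i))) = 0 := Subtype.ext (h2 _)
  have h3 : p • (![1, 0] : Fin 2 → F) = 0 := by
    rw [← e.apply_symm_apply ![1, 0], ← map_nsmul, h1, map_zero]
  have h4 := congrFun h3 0
  simpa using h4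

theorem two_ne (h2 : ∀ v : V, p • v = 0) (hp2 : p ≠ 2) (e : ↥(ng V (z i)) ≃+ (Fin 2 → F)) : (2 : F) ≠ 0 := by
  intro h
  have h1 := char_F h2 e
  obtain ⟨k, hk⟩ := hp.out.odd_of_ne_two hp2
  rw [hk] at h1
  push_cast at h1
  rw [h, zero_mul, zero_add] at h1
  exact one_ne_zero h1

variable (h2 : ∀ v : V, p • v = 0) (hp2 : p ≠ 2) (o : Out p V pt 𝒟 T r A L z)
  (hn : IsNat F (L i) (ng V (z i)) ρ e) (hl : ∀ m : ↥(ng V (z i)), (m : V) ∈ fx V (A i) ↔ e m 1 = 0)
include h2 hp2 o hn hl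

/-- the matrix of an element of `A i` -/
theorem mat_A {a : X} (ha : a ∈ A i) : (ρ ⟨a, o.AL i ha⟩).1 0 0 = 1 ∧ (ρ ⟨a, o.AL i ha⟩).1 1 0 = 0 ∧
    (ρ ⟨a, o.AL i ha⟩).1 1 1 = 1 := by
  have h1 : ((e.symm ![1, 0] : ng V (z i)) : V) ∈ fx V (A i) := by
    rw [hl, AddEquiv.apply_symm_apply]; rfl
  have h3 := hn.act ⟨a, o.AL i ha⟩ (e.symm ![1, 0]) (e.symm ![1, 0]) (h1 a ha).symm
  rw [AddEquiv.apply_symm_apply] at h3
  have h4 := congrFun h3 0
  have h5 := congrFun h3 1
  simp [Matrix.mulVec, dotProduct, Fin.sum_univ_two] at h4 h5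
  have hdet := (ρ ⟨a, o.AL i ha⟩).2
  rw [Matrix.det_fin_two] at hdet
  refine ⟨h4.symm, h5.symm, ?_⟩
  rw [← h4, ← h5] at hdet
  simpa using hdet

theorem exists_A (hcard : Fintype.card F = Nat.card (A i)) (b : F) : ∃ a, ∃ ha : a ∈ A i, (ρ ⟨a, o.AL i ha⟩).1 0 1 = b := by
  classical
  let f : A i → F := fun a => (ρ ⟨a, o.AL i a.2⟩).1 0 1
  have hf : Function.Injective f := by
    intro a a' haa
    obtain ⟨h1, h3, h4⟩ := mat_A h2 hp2 o hn hl a.2
    obtain ⟨h5, h6, h7⟩ := mat_A h2 hp2 o hn hl a'.2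
    have h8 : ρ ⟨a, o.AL i a.2⟩ = ρ ⟨a', o.AL i a'.2⟩ := by
      apply Subtype.ext
      ext x y
      fin_cases x <;> fin_cases y
      · exact h1.trans h5.symm
      · exact haa
      · exact h3.trans h6.symm
      · exact h4.trans h7.symm
    have h9 := ρ.injective h8
    exact Subtype.ext (congrArg (fun y : L i => (y : X)) h9)
  have _ : Fintype (A i) := Fintype.ofFinite _
  have hb : Function.Bijective f := (Fintype.bijective_iff_injective_and_card f).2
    ⟨hf, by rw [hcard, Nat.card_eq_fintype_card]⟩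
  obtain ⟨a, ha⟩ := hb.2 b
  exact ⟨a, a.2, ha⟩

/-- the fundamental relation -/
theorem rel {t : X} (hA : cj t (A i) = A i) (hz : t * z i * t⁻¹ = z i) {a : X} (ha : a ∈ A i) (w tw : ng V (z i))
    (htw : (tw : V) = t • (w : V)) (hta : t * a * t⁻¹ ∈ A i) (m : ng V (z i))
    (hm : (m : V) = t • ((e.symm ![(ρ ⟨a, o.AL i ha⟩).1 0 1 * e w 1, 0] : ng V (z i)) : V)) :
    e m 0 = (ρ ⟨t * a * t⁻¹, o.AL i hta⟩).1 0 1 * e tw 1 := by
  obtain ⟨h1, h3, h4⟩ := mat_A h2 hp2 o hn hl ha
  obtain ⟨h5, h6, h7⟩ := mat_A h2 hp2 o hn hl hta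
  -- `a w - w`
  have haw : a • (w : V) ∈ ng V (z i) := hn.inv a (o.AL i ha) _ w.2
  have e1 := hn.act ⟨a, o.AL i ha⟩ w ⟨a • (w : V), haw⟩ rfl
  have e2 : (⟨a • (w : V), haw⟩ - w : ng V (z i)) = e.symm ![(ρ ⟨a, o.AL i ha⟩).1 0 1 * e w 1, 0] := by
    apply e.injective
    rw [map_sub, e1, AddEquiv.apply_symm_apply]
    ext x
    fin_cases x <;> simp [h1, h3, h4]
  have e3 : (m : V) = (t * a * t⁻¹) • (tw : V) - (tw : V) := by
    rw [hm, ← e2, htw]
    show t • (a • (w : V) - (w : V)) = _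
    rw [smul_sub, mul_smul, inv_smul_smul, mul_smul]
  have hatw : (t * a * t⁻¹) • (tw : V) ∈ ng V (z i) := hn.inv _ (o.AL i hta) _ tw.2
  have e4 := hn.act ⟨_, o.AL i hta⟩ tw ⟨_, hatw⟩ rfl
  have e5 : m = ⟨_, hatw⟩ - tw := Subtype.ext e3
  rw [e5, map_sub, e4]
  simp [h5, h6, h7]

end Nat

section

variable (h2 : ∀ v : V, p • v = 0) (hp2 : p ≠ 2) (o : Out p V pt 𝒟 T r A L z)
include h2 hp2 o

/-- **an element of `T` which is quadratic on the lines centralizes the lines** -/
theorem trivial_of_quad {t : X} (ht : t ∈ T) (hq : ∀ i, ∀ v ∈ ln V A z i, t • (t • v - v) = t • v - v) (i : Fin r) :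
    ∀ v ∈ ln V A z i, t • v = v := by
  obtain ⟨hA, hL, hz⟩ := fix_of_quad h2 hp2 o ht hq i
  obtain ⟨F, hF, hFt, hcard, ρ, e, hn, hl⟩ := o.nat i
  have hN : ∀ m : ng V (z i), t • (m : V) ∈ ng V (z i) := fun m => smul_mem_ng hz m.2
  let tt : ng V (z i) → ng V (z i) := fun m => ⟨t • (m : V), hN m⟩
  have htadd : ∀ m m', tt (m + m') = tt m + tt m' := fun m m' => Subtype.ext (smul_add _ _ _)
  have htsub : ∀ m m', tt (m - m') = tt m - tt m' := fun m m' => Subtype.ext (smul_sub _ _ _)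
  have hlin : ∀ x : F, ((e.symm ![x, 0] : ng V (z i)) : V) ∈ ln V A z i := fun x =>
    ⟨(hl (e.symm ![x, 0])).2 (by rw [AddEquiv.apply_symm_apply]; rfl), (e.symm ![x, 0]).2⟩
  have htl : ∀ x : F, e (tt (e.symm ![x, 0])) 1 = 0 := by
    intro x
    rw [← hl]
    exact (smul_ln h2 hp2 o hA hz (hlin x)).1
  have htl' : ∀ x : F, tt (e.symm ![x, 0]) = e.symm ![e (tt (e.symm ![x, 0])) 0, 0] := by
    intro x
    apply e.injective
    rw [AddEquiv.apply_symm_apply]
    ext y
    fin_cases y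
    · rfl
    · exact htl x
  have hA' : ∀ a ∈ A i, t * a * t⁻¹ ∈ A i := fun a ha => by rw [← hA]; exact mem_cj_of ha
  choose a ha hab using fun b : F => exists_A h2 hp2 o hn hl hcard b
  have key := field_lemma (two_ne h2 hp2 e) (fun x => e (tt (e.symm ![x, 0])) 0)
    (fun b => (ρ ⟨t * a b * t⁻¹, o.AL i (hA' _ (ha b))⟩).1 0 1) (fun y => e (tt (e.symm ![0, y])) 1) ?_ ?_ ?_ ?_
  · intro v hv
    have e1 : (⟨v, hv.2⟩ : ng V (z i)) = e.symm ![e ⟨v, hv.2⟩ 0, 0] := by
      apply e.injective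
      rw [AddEquiv.apply_symm_apply]
      ext y
      fin_cases y
      · rfl
      · exact (hl ⟨v, hv.2⟩).1 hv.1
    have e2 : tt ⟨v, hv.2⟩ = ⟨v, hv.2⟩ := by
      rw [e1, htl', key]
    exact congrArg Subtype.val e2
  · intro x y
    have e1 : (e.symm ![x + y, 0] : ng V (z i)) = e.symm ![x, 0] + e.symm ![y, 0] := by
      rw [← map_add]; congr 1; ext k; fin_cases k <;> simp
    show e (tt (e.symm ![x + y, 0])) 0 = e (tt (e.symm ![x, 0])) 0 + e (tt (e.symm ![y, 0])) 0
    rw [e1, htadd, map_add]; rfl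
  · intro x hx
    have e1 := htl' x
    have hx' : e (tt (e.symm ![x, 0])) 0 = 0 := hx
    rw [hx'] at e1
    have e2 : (![0, 0] : Fin 2 → F) = 0 := by ext k; fin_cases k <;> rfl
    rw [e2, map_zero] at e1
    have e3 : t • ((e.symm ![x, 0] : ng V (z i)) : V) = 0 := congrArg Subtype.val e1
    have e4 : (e.symm ![x, 0] : ng V (z i)) = 0 := Subtype.ext ((smul_eq_zero_iff_eq t).1 e3)
    have e5 : (![x, 0] : Fin 2 → F) = 0 := by rw [← e.apply_symm_apply ![x, 0], e4, map_zero]
    exact congrFun e5 0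
  · intro b y
    have h3 := rel h2 hp2 o hn hl hA hz (ha b) (e.symm ![0, y]) (tt (e.symm ![0, y])) rfl (hA' _ (ha b))
      (tt (e.symm ![(ρ ⟨a b, o.AL i (ha b)⟩).1 0 1 * e (e.symm ![0, y]) 1, 0])) rfl
    rw [hab, AddEquiv.apply_symm_apply] at h3
    exact h3
  · intro x
    have e1 := hq i _ (hlin x)
    have e2 : tt (tt (e.symm ![x, 0]) - e.symm ![x, 0]) = tt (e.symm ![x, 0]) - e.symm ![x, 0] := Subtype.ext e1
    have e3 : tt (e.symm ![x, 0]) - e.symm ![x, 0] = e.symm ![e (tt (e.symm ![x, 0])) 0 - x, 0] := by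
      rw [htl' x, ← map_sub, AddEquiv.apply_symm_apply]
      congr 1; ext k; fin_cases k <;> simp
    show e (tt (e.symm ![e (tt (e.symm ![x, 0])) 0 - x, 0])) 0 = e (tt (e.symm ![x, 0])) 0 - x
    rw [← e3, e2, map_sub, Pi.sub_apply, AddEquiv.apply_symm_apply]
    rfl

/-- **an element of `T` which centralizes the line acts on `[V, z_i]` like an element of `L_i`** -/
theorem exists_act {t : X} (ht : t ∈ T) (i : Fin r) (hq : ∀ v ∈ ln V A z i, t • v = v) :
    ∃ l ∈ L i, ∀ v ∈ ng V (z i), t • v = l • v := by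
  classical
  obtain ⟨hA, hL, hz⟩ := fix_of_trivial h2 hp2 o ht hq
  obtain ⟨F, hF, hFt, hcard, ρ, e, hn, hl⟩ := o.nat i
  have hN : ∀ m : ng V (z i), t • (m : V) ∈ ng V (z i) := fun m => smul_mem_ng hz m.2
  let tt : ng V (z i) → ng V (z i) := fun m => ⟨t • (m : V), hN m⟩
  have htadd : ∀ m m', tt (m + m') = tt m + tt m' := fun m m' => Subtype.ext (smul_add _ _ _)
  have hlin : ∀ x : F, ((e.symm ![x, 0] : ng V (z i)) : V) ∈ ln V A z i := fun x =>
    ⟨(hl (e.symm ![x, 0])).2 (by rw [AddEquiv.apply_symm_apply]; rfl), (e.symm ![x, 0]).2⟩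
  have htl : ∀ x : F, tt (e.symm ![x, 0]) = e.symm ![x, 0] := fun x => Subtype.ext (hq _ (hlin x))
  have hA' : ∀ a ∈ A i, t * a * t⁻¹ ∈ A i := fun a ha => by rw [← hA]; exact mem_cj_of ha
  obtain ⟨a, ha, hab⟩ := exists_A h2 hp2 o hn hl hcard 1
  set α := (ρ ⟨t * a * t⁻¹, o.AL i (hA' _ ha)⟩).1 0 1 with hα
  have hrel : ∀ w, e w 1 = α * e (tt w) 1 := by
    intro w
    have h3 := rel h2 hp2 o hn hl hA hz ha w (tt w) rfl (hA' _ ha)
      (tt (e.symm ![(ρ ⟨a, o.AL i ha⟩).1 0 1 * e w 1, 0])) rfl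
    rw [htl, AddEquiv.apply_symm_apply, hab, one_mul] at h3
    exact h3
  -- powers of `t`
  have hpow : ∀ k : ℕ, ∀ w w' : ng V (z i), (w' : V) = t ^ k • (w : V) → e w 1 = α ^ k * e w' 1 := by
    intro k
    induction k with
    | zero =>
      intro w w' hw
      rw [pow_zero, one_smul] at hw
      rw [Subtype.ext hw, pow_zero, one_mul]
    | succ k ih =>
      intro w w' hw
      have hm : t ^ k • (w : V) ∈ ng V (z i) := by
        have : ∀ k : ℕ, t ^ k • (w : V) ∈ ng V (z i) := by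
          intro k
          induction k with
          | zero => rw [pow_zero, one_smul]; exact w.2
          | succ k ih => rw [pow_succ', mul_smul]; exact hN ⟨_, ih⟩
        exact this k
      have e1 : tt ⟨_, hm⟩ = w' := Subtype.ext (by rw [hw, pow_succ', mul_smul])
      rw [ih w ⟨_, hm⟩ rfl, hrel ⟨_, hm⟩, e1, pow_succ, mul_assoc]
  have hα1 : α = 1 := by
    obtain ⟨k, hk⟩ := T.isPGroup' ⟨t, ht⟩
    have hk' : t ^ p ^ k = 1 := by
      have := congrArg Subtype.val hk
      simpa using this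
    have h3 := hpow (p ^ k) (e.symm ![0, 1]) (e.symm ![0, 1]) (by rw [hk', one_smul])
    rw [AddEquiv.apply_symm_apply] at h3
    have h4 : α ^ p ^ k = 1 := by simpa using h3.symm
    have _ : CharP F p := (CharP.charP_iff_prime_eq_zero hp.out).2 (char_F h2 e)
    have h5 : (α - 1) ^ p ^ k = 0 := by
      rw [sub_pow_char_pow, h4, one_pow, sub_self]
    have h6 := pow_eq_zero_iff (pow_ne_zero k hp.out.ne_zero) |>.1 h5
    exact sub_eq_zero.1 h6
  have hsec : ∀ w, e (tt w) 1 = e w 1 := by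
    intro w
    rw [hrel w, hα1, one_mul]
  -- the opposite transvection
  let U : Matrix.SpecialLinearGroup (Fin 2) F := ⟨!![1, 0; 1, 1], by rw [Matrix.det_fin_two_of]; ring⟩
  let u : L i := ρ.symm U
  have hρu : ρ u = U := ρ.apply_symm_apply U
  have hu' : t * (u : X) * t⁻¹ ∈ L i := by
    have := mem_cj_of (g := t) u.2
    rwa [hL] at this
  set N := (ρ ⟨t * (u : X) * t⁻¹, hu'⟩).1 with hNdef
  have hG : ∀ x : F, e (tt (e.symm ![0, x])) 0 = (N 0 0 - 1) * x := by
    intro x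
    have h3 : (u : X) • ((e.symm ![x, 0] : ng V (z i)) : V) ∈ ng V (z i) := hn.inv _ u.2 _ (e.symm ![x, 0]).2
    have h4 := hn.act u (e.symm ![x, 0]) ⟨_, h3⟩ rfl
    rw [hρu, AddEquiv.apply_symm_apply] at h4
    have h5 : (⟨_, h3⟩ : ng V (z i)) = e.symm ![x, 0] + e.symm ![0, x] := by
      apply e.injective
      rw [h4, ← map_add, AddEquiv.apply_symm_apply]
      ext k
      fin_cases k <;> simp [U, Matrix.mulVec, dotProduct, Fin.sum_univ_two]
    have h6 := hn.act ⟨t * (u : X) * t⁻¹, hu'⟩ (e.symm ![x, 0]) (tt (e.symm ![x, 0] + e.symm ![0, x])) (by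
      rw [← h5]
      show t • ((u : X) • ((e.symm ![x, 0] : ng V (z i)) : V)) = (t * (u : X) * t⁻¹) • ((e.symm ![x, 0] : ng V (z i)) : V)
      have h7 : t⁻¹ • ((e.symm ![x, 0] : ng V (z i)) : V) = ((e.symm ![x, 0] : ng V (z i)) : V) := by
        rw [inv_smul_eq_iff]; exact (hq _ (hlin x)).symm
      rw [mul_smul, h7, mul_smul])
    rw [htadd, htl, map_add, AddEquiv.apply_symm_apply] at h6
    have h7 := congrFun h6 0
    simp [Matrix.mulVec, dotProduct, Fin.sum_univ_two] at h7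
    rw [← hNdef] at h7
    linear_combination h7
  let W : Matrix.SpecialLinearGroup (Fin 2) F := ⟨!![1, N 0 0 - 1; 0, 1], by rw [Matrix.det_fin_two_of]; ring⟩
  let l : L i := ρ.symm W
  have hρl : ρ l = W := ρ.apply_symm_apply W
  refine ⟨l, l.2, fun v hv => ?_⟩
  have hlv : (l : X) • v ∈ ng V (z i) := hn.inv _ l.2 _ hv
  have h3 := hn.act l ⟨v, hv⟩ ⟨_, hlv⟩ rfl
  have h4 : tt ⟨v, hv⟩ = ⟨_, hlv⟩ := by
    apply e.injective
    rw [h3, hρl]
    have e1 : (⟨v, hv⟩ : ng V (z i)) = e.symm ![e ⟨v, hv⟩ 0, 0] + e.symm ![0, e ⟨v, hv⟩ 1] := by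
      apply e.injective
      rw [← map_add, AddEquiv.apply_symm_apply]
      ext k
      fin_cases k <;> simp
    ext k
    fin_cases k
    · show e (tt ⟨v, hv⟩) 0 = _
      conv_lhs => rw [e1, htadd, htl, map_add, Pi.add_apply, hG, AddEquiv.apply_symm_apply]
      simp [W, Matrix.mulVec, dotProduct, Fin.sum_univ_two]
    · show e (tt ⟨v, hv⟩) 1 = _
      rw [hsec]
      simp [W, Matrix.mulVec, dotProduct, Fin.sum_univ_two]
  exact congrArg Subtype.val h4

end

end Cfsg.Agent.H215.Line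
end

-- part: H215/Glob
section
/-!
# The subgroup `E = ⟨L_i⟩`: elements of `T` centralizing the lines lie in `E`; abelian offenders centralize the lines
-/

set_option autoImplicit false
set_option linter.unusedSectionVars false
set_option linter.unusedVariables false

namespace Cfsg.Agent.H215.Glob

open Cfsg.Agent.H263.FF.Basic Cfsg.Agent.H263.FF.Setup Cfsg.Agent.H263.FF.Odd Cfsg.Agent.H263.FF.OddNat
open Cfsg.Agent.H215.Line Cfsg.Agent.H215.Timm

variable {p : ℕ} [hp : Fact p.Prime]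
variable {X : Type*} [Group X] [Finite X] {V : Type*} [AddCommGroup V] [Finite V] [DistribMulAction X V]
variable {pt : Sylow p X → Subgroup X} {𝒟 : Set (Subgroup X)}
variable {T : Sylow p X} {r : ℕ} {A L : Fin r → Subgroup X} {z : Fin r → X}

variable (h2 : ∀ v : V, p • v = 0) (hp2 : p ≠ 2) (hf : ∀ x : X, (∀ v : V, x • v = v) → x = 1)
  (o : Out p V pt 𝒟 T r A L z)
  (hmax : ∀ H : Subgroup X, (T : Subgroup X) ≤ H → H ≤ pt T ∨ H = ⊤)
  (hcore : ∀ N : Subgroup X, N.Normal → IsPGroup p N → N = ⊥)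

section

include o hmax

theorem normal_E : (⨆ i, L i).Normal := by
  rw [← Subgroup.normalizer_eq_top_iff, eq_top_iff, ← o.sup_eq hmax]
  apply sup_le Subgroup.le_normalizer
  intro t ht
  rw [← cj_eq_iff_mem_normalizer]
  apply cj_eq_of_le
  have h1 : (⨆ i, L i) ≤ cj t⁻¹ (⨆ i, L i) := by
    apply iSup_le
    intro i
    obtain ⟨j, -, hj, -⟩ := o.cjT t ht i
    have h3 : cj t (L i) ≤ ⨆ i, L i := by rw [hj]; exact le_iSup L j
    have h4 := cj_mono t⁻¹ h3
    rwa [cj_inv_cj] at h4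
  have h5 := cj_mono t h1
  rwa [cj_cj_inv] at h5

theorem exists_mul (x : X) : ∃ e ∈ ⨆ i, L i, ∃ t ∈ T, e * t = x := by
  have := normal_E o hmax
  have h1 : x ∈ (⨆ i, L i) ⊔ (T : Subgroup X) := by rw [o.sup_eq hmax]; trivial
  exact Subgroup.mem_sup_of_normal_left.1 h1

omit hmax in
theorem comm_z {x : X} (hx : x ∈ ⨆ i, L i) (i : Fin r) : x * z i * x⁻¹ = z i := by
  have h3 : (⨆ j, L j) ≤ Subgroup.centralizer ({z i} : Set X) := iSup_le fun j l hl => by
    rw [Subgroup.mem_centralizer_singleton_iff]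
    by_cases hij : i = j
    · subst hij
      exact (o.zc i l hl).symm
    · exact (o.comm i j hij _ (o.isZ i).mem l hl).symm
  have h4 := Subgroup.mem_centralizer_singleton_iff.1 (h3 hx)
  rw [h4, mul_inv_cancel_right]

theorem perm (x : X) (i : Fin r) : ∃ j, x * z i * x⁻¹ = z j := by
  obtain ⟨e, he, t, ht, rfl⟩ := exists_mul o hmax x
  obtain ⟨j, -, -, hj⟩ := o.cjT t ht i
  refine ⟨j, ?_⟩
  have h1 := comm_z o he j
  rw [← hj] at h1
  rw [← hj, ← h1]; group

end

section

include h2 hp2 hf o hmax hcore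

/-- **an element of `T` centralizing the lines lies in `E`** -/
theorem mem_E {t : X} (ht : t ∈ T) (hq : ∀ i, ∀ v ∈ ln V A z i, t • v = v) : t ∈ ⨆ i, L i := by
  classical
  have hE := normal_E o hmax
  have hact := fun i => exists_act h2 hp2 o ht i (hq i)
  have key : ∀ s : Finset (Fin r), ∃ e ∈ ⨆ i, L i, (∀ i ∈ s, ∀ v ∈ ng V (z i), e • v = t • v) ∧
      ∀ i ∉ s, ∀ v ∈ ng V (z i), e • v = v := by
    intro s
    induction s using Finset.induction_on with
    | empty => exact ⟨1, one_mem _, fun i hi => absurd hi (Finset.notMem_empty i), fun i _ v _ => one_smul _ v⟩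
    | insert i s his ih =>
      obtain ⟨e, he, h3, h4⟩ := ih
      obtain ⟨l, hl, h5⟩ := hact i
      refine ⟨e * l, mul_mem he ((le_iSup L i) hl), ?_, ?_⟩
      · intro j hj v hv
        rcases Finset.mem_insert.1 hj with rfl | hj'
        · rw [mul_smul, ← h5 v hv]
          apply h4 _ his
          rw [h5 v hv]
          have h6 := smul_mem_ng (comm_z o ((le_iSup L j) hl) j) hv
          exact h6
        · have hij : j ≠ i := by rintro rfl; exact his hj'
          rw [mul_smul, o.ngfx j i hij hv l hl]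
          exact h3 j hj' v hv
      · intro j hj v hv
        rw [Finset.mem_insert, not_or] at hj
        rw [mul_smul, o.ngfx j i hj.1 hv l hl]
        exact h4 j hj.2 v hv
  obtain ⟨e, he, h3, -⟩ := key Finset.univ
  -- the kernel on the sum of the components
  let D : Subgroup X :=
    { carrier := {x | ∀ i, ∀ v ∈ ng V (z i), x • v = v}
      one_mem' := fun i v _ => one_smul _ v
      mul_mem' := fun {a b} ha hb i v hv => by rw [mul_smul, hb i v hv, ha i v hv]
      inv_mem' := fun {a} ha i v hv => by rw [inv_smul_eq_iff, ha i v hv] }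
  have hDE : ∀ x ∈ D, x ∈ ⨆ i, L i → x = 1 := by
    intro x hx hxE
    apply hf
    intro v
    have h4 : v ∈ fx V (⨆ i, L i) ⊔ (⨆ i, ng V (z i)) := by rw [o.decomp h2 hp2]; trivial
    obtain ⟨u, hu, n, hn, rfl⟩ := mem_sup h4
    have h5 : (⨆ i, ng V (z i)) ≤ fe V x := iSup_le fun i v hv => hx i v hv
    rw [smul_add, hu x hxE, (h5 hn : x • n = n)]
  have hDn : D.Normal := by
    constructor
    intro x hx y i v hv
    obtain ⟨j, hj⟩ := perm o hmax y⁻¹ i
    have h5 := hx j _ (smul_mem_ng hj hv)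
    rw [mul_smul, mul_smul, h5, smul_inv_smul]
  have hDp : IsPGroup p D := by
    rintro ⟨x, hx⟩
    obtain ⟨e', he', t', ht', rfl⟩ := exists_mul o hmax x
    obtain ⟨k, hk⟩ := T.isPGroup' ⟨t', ht'⟩
    have hk' : t' ^ p ^ k = 1 := by
      have := congrArg Subtype.val hk
      simpa using this
    refine ⟨k, Subtype.ext ?_⟩
    show (e' * t') ^ p ^ k = 1
    apply hDE _ (pow_mem hx _)
    rw [← QuotientGroup.eq_one_iff, QuotientGroup.mk_pow, QuotientGroup.mk_mul,
      (QuotientGroup.eq_one_iff e').2 he', one_mul, ← QuotientGroup.mk_pow, hk', QuotientGroup.mk_one]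
  have hD1 := hcore D hDn hDp
  have h4 : e⁻¹ * t ∈ D := by
    intro i v hv
    rw [mul_smul, ← h3 i (Finset.mem_univ i) v hv, inv_smul_smul]
  rw [hD1, Subgroup.mem_bot, inv_mul_eq_one] at h4
  rw [← h4]; exact he

end

section

include h2 hp2 o

/-- **abelian offenders centralize the lines** -/
theorem off_trivial {B : Subgroup X} (hBT : B ≤ T) (hB : ∀ a ∈ B, ∀ b ∈ B, a * b = b * a)
    (hoff : ∀ C ≤ B, mm V C ≤ mm V B) : ∀ b ∈ B, ∀ i, ∀ v ∈ ln V A z i, b • v = v := by
  classical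
  set Λ : AddSubgroup V := ⨆ i, ln V A z i with hΛ
  have hinv : ∀ a ∈ B, ∀ v ∈ Λ, a • v ∈ Λ := by
    intro a ha
    have h1 : Λ ≤ Λ.comap (DistribSMul.toAddMonoidHom V a) := by
      apply iSup_le
      intro i v hv
      obtain ⟨j, h3, -, h4⟩ := o.cjT a (hBT ha) i
      exact (le_iSup (fun i => ln V A z i) j) (smul_ln h2 hp2 o h3 h4 hv)
    exact fun v hv => h1 hv
  have hle : Nat.card (kr B Λ) * Nat.card Λ ≤ Nat.card B * Nat.card (Λ ⊓ fx V B : AddSubgroup V) := by
    have h1 := hoff (kr B Λ) kr_le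
    have h3 : Λ ⊔ fx V B ≤ fx V (kr B Λ) :=
      sup_le (fun v hv x hx => hx.2 v hv) (fx_anti kr_le)
    have h4 := card_sup_inf Λ (fx V B)
    have h5 := card_le h3
    rw [mm, mm] at h1
    have h6 : 0 < Nat.card (fx V B) := Nat.card_pos
    refine Nat.le_of_mul_le_mul_right ?_ h6
    calc Nat.card (kr B Λ) * Nat.card Λ * Nat.card (fx V B)
        = Nat.card (kr B Λ) * (Nat.card (Λ ⊔ fx V B : AddSubgroup V) * Nat.card (Λ ⊓ fx V B : AddSubgroup V)) := by
          rw [h4, mul_assoc]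
      _ ≤ Nat.card (kr B Λ) * (Nat.card (fx V (kr B Λ)) * Nat.card (Λ ⊓ fx V B : AddSubgroup V)) :=
          Nat.mul_le_mul_left _ (Nat.mul_le_mul_right _ h5)
      _ = (Nat.card (kr B Λ) * Nat.card (fx V (kr B Λ))) * Nat.card (Λ ⊓ fx V B : AddSubgroup V) := by ring
      _ ≤ (Nat.card B * Nat.card (fx V B)) * Nat.card (Λ ⊓ fx V B : AddSubgroup V) :=
          Nat.mul_le_mul_right _ h1
      _ = _ := by ring
  have hall : ∀ a ∈ B, ∀ v ∈ Λ, a • v = v := by
    by_contra hcon
    push Not at hcon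
    obtain ⟨a, ha, v, hv, hav⟩ := hcon
    obtain ⟨C, hCB, hC1, ⟨c, hc, w, hw, hcw⟩, -, hq⟩ := timm hB (T.isPGroup'.to_le hBT) h2 hinv hle ⟨a, ha, v, hv, hav⟩
    apply hcw
    have h3 := trivial_of_quad h2 hp2 o (hBT (hCB hc)) (fun i v hv => hq c hc c hc v ((le_iSup (fun i => ln V A z i) i) hv))
    have h4 : Λ ≤ fe V c := iSup_le fun i v hv => h3 i v hv
    exact h4 hw
  intro b hb i v hv
  exact hall b hb v ((le_iSup (fun i => ln V A z i) i) hv)

end

end Cfsg.Agent.H215.Glob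
end

-- part: H215/RankOne
section
/-!
# The case `X = ⟨L_i⟩`: `X ≅ SL₂(F)`
-/

set_option autoImplicit false
set_option linter.unusedSectionVars false
set_option linter.unusedVariables false

namespace Cfsg.Agent.H215.RankOne

open Cfsg.Agent.H263.FF.Basic Cfsg.Agent.H263.FF.Setup Cfsg.Agent.H263.FF.Odd Cfsg.Agent.H263.FF.OddNat
open Cfsg.Agent.H215.Line Cfsg.Agent.H215.Timm Cfsg.Agent.H215.Glob

/-- the geometry of `SL₂(q)` on the natural module -/
structure R1 {X : Type*} [Group X] (V : Type*) [AddCommGroup V] [DistribMulAction X V] (T M : Subgroup X) : Prop where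
  cent : ∀ t ∈ T, t ≠ 1 → ∀ v : V, t • v = v → v ∈ fx V T
  card : Nat.card T * Nat.card (fx V T) = Nat.card V
  sup : ∀ g, g ∉ M → fx V T ⊔ fx V (cj g T) = ⊤
  inf : ∀ g, g ∉ M → fx V T ⊓ fx V (cj g T) ≤ fx V (⊤ : Subgroup X)
  cov : ∀ g₁, g₁ ∉ M → ∀ x, x ∉ M → ∃ t ∈ T, ∃ m ∈ M, x = t * g₁ * m
  free : ∀ g₁, g₁ ∉ M → ∀ t ∈ T, g₁⁻¹ * t * g₁ ∈ M → t = 1

variable {p : ℕ} [hp : Fact p.Prime]
variable {X : Type*} [Group X] [Finite X] {V : Type*} [AddCommGroup V] [Finite V] [DistribMulAction X V]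
variable {pt : Sylow p X → Subgroup X} {𝒟 : Set (Subgroup X)}
variable {T : Sylow p X} {r : ℕ} {A L : Fin r → Subgroup X} {z : Fin r → X}

theorem rank_one (h2 : ∀ v : V, p • v = 0) (hp2 : p ≠ 2) (hf : ∀ x : X, (∀ v : V, x • v = v) → x = 1)
    (o : Out p V pt 𝒟 T r A L z)
    (hmax : ∀ H : Subgroup X, (T : Subgroup X) ≤ H → H ≤ pt T ∨ H = ⊤) (hpt : pt T ≠ ⊤)
    (hE : (⨆ i, L i) = ⊤) : R1 V (T : Subgroup X) (pt T) := by
  classical
  have hz1 : ∀ (x : X) i, x * z i * x⁻¹ = z i := fun x i => comm_z o (by rw [hE]; trivial) i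
  have hr : ∀ i j : Fin r, i = j := by
    intro i j
    obtain ⟨t, -, -, -, h1⟩ := o.trans i j
    rw [hz1] at h1
    exact inj_z h2 hp2 o h1
  set i₀ : Fin r := ⟨0, o.pos⟩ with hi₀
  have hL : L i₀ = ⊤ := by
    rw [← hE]
    apply le_antisymm (le_iSup L i₀)
    exact iSup_le fun i => by rw [hr i i₀]
  have hmL : ∀ x : X, x ∈ L i₀ := fun x => by rw [hL]; trivial
  obtain ⟨F, hF, hFt, hcard, ρ, e, hn, hl⟩ := o.nat i₀
  -- matrices
  let m : X → Matrix (Fin 2) (Fin 2) F := fun x => (ρ ⟨x, hmL x⟩).1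
  have hmul : ∀ x y, m (x * y) = m x * m y := by
    intro x y
    have : (⟨x * y, hmL (x * y)⟩ : L i₀) = ⟨x, hmL x⟩ * ⟨y, hmL y⟩ := rfl
    show (ρ ⟨x * y, _⟩).1 = _
    rw [this, map_mul]; rfl
  have hdet : ∀ x, m x 0 0 * m x 1 1 - m x 0 1 * m x 1 0 = 1 := by
    intro x
    have := (ρ ⟨x, hmL x⟩).2
    rwa [Matrix.det_fin_two] at this
  have h00 : ∀ x y, m (x * y) 0 0 = m x 0 0 * m y 0 0 + m x 0 1 * m y 1 0 := fun x y => by
    rw [hmul, Matrix.mul_apply, Fin.sum_univ_two]
  have h01 : ∀ x y, m (x * y) 0 1 = m x 0 0 * m y 0 1 + m x 0 1 * m y 1 1 := fun x y => by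
    rw [hmul, Matrix.mul_apply, Fin.sum_univ_two]
  have h10 : ∀ x y, m (x * y) 1 0 = m x 1 0 * m y 0 0 + m x 1 1 * m y 1 0 := fun x y => by
    rw [hmul, Matrix.mul_apply, Fin.sum_univ_two]
  have h11 : ∀ x y, m (x * y) 1 1 = m x 1 0 * m y 0 1 + m x 1 1 * m y 1 1 := fun x y => by
    rw [hmul, Matrix.mul_apply, Fin.sum_univ_two]
  have hone : m 1 = 1 := by
    have : (⟨1, hmL 1⟩ : L i₀) = 1 := rfl
    show (ρ ⟨1, _⟩).1 = _
    rw [this, map_one]; rfl
  have hinj : ∀ x y, m x = m y → x = y := by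
    intro x y hxy
    have h1 : ρ ⟨x, hmL x⟩ = ρ ⟨y, hmL y⟩ := Subtype.ext hxy
    exact congrArg (fun y : L i₀ => (y : X)) (ρ.injective h1)
  have hinv : ∀ x, m x⁻¹ 1 0 = - m x 1 0 ∧ m x⁻¹ 0 0 = m x 1 1 ∧ m x⁻¹ 1 1 = m x 0 0 ∧ m x⁻¹ 0 1 = - m x 0 1 := by
    intro x
    have h1 : (⟨x⁻¹, hmL x⁻¹⟩ : L i₀) = (⟨x, hmL x⟩)⁻¹ := rfl
    have h3 : m x⁻¹ = ((ρ ⟨x, hmL x⟩)⁻¹ : Matrix.SpecialLinearGroup (Fin 2) F).1 := by
      show (ρ ⟨x⁻¹, _⟩).1 = _
      rw [h1, map_inv]
    rw [h3, Matrix.SpecialLinearGroup.coe_inv, Matrix.adjugate_fin_two]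
    exact ⟨rfl, rfl, rfl, rfl⟩
  have hex : ∀ U : Matrix.SpecialLinearGroup (Fin 2) F, ∃ x, m x = U.1 := by
    intro U
    refine ⟨ρ.symm U, ?_⟩
    show (ρ ⟨(ρ.symm U : L i₀), _⟩).1 = U.1
    rw [Subtype.coe_eta, MulEquiv.apply_symm_apply]
  -- the module
  have hNi : ∀ x : X, ∀ v ∈ (ng V (z i₀)), x • v ∈ (ng V (z i₀)) := fun x v hv => hn.inv x (hmL x) v hv
  have hact0 : ∀ (x : X) (w w' : (ng V (z i₀))), (w' : V) = x • (w : V) → e w' 0 = m x 0 0 * e w 0 + m x 0 1 * e w 1 := by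
    intro x w w' h
    rw [hn.act ⟨x, hmL x⟩ w w' h, Matrix.mulVec, dotProduct, Fin.sum_univ_two]
  have hact1 : ∀ (x : X) (w w' : (ng V (z i₀))), (w' : V) = x • (w : V) → e w' 1 = m x 1 0 * e w 0 + m x 1 1 * e w 1 := by
    intro x w w' h
    rw [hn.act ⟨x, hmL x⟩ w w' h, Matrix.mulVec, dotProduct, Fin.sum_univ_two]
  have hfixT : fx V (L i₀) = fx V (⊤ : Subgroup X) := by rw [hL]
  have hdec : ∀ v : V, ∃ u ∈ fx V (⊤ : Subgroup X), ∃ n ∈ (ng V (z i₀)), u + n = v := by
    intro v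
    rw [← hfixT]
    exact (o.isZ i₀).decomp h2 hp2 v
  have hlmem : ∀ w : (ng V (z i₀)), (w : V) ∈ ln V A z i₀ ↔ e w 1 = 0 := by
    intro w
    rw [← hl]
    exact ⟨fun h => h.1, fun h => ⟨h, w.2⟩⟩
  -- `T` is upper unitriangular
  have hTfix : ∀ t ∈ T, cj t (A i₀) = A i₀ := by
    intro t ht
    obtain ⟨j, h1, -, -⟩ := o.cjT t ht i₀
    rw [h1, hr j i₀]
  have hTl : ∀ t ∈ T, ∀ v ∈ ln V A z i₀, t • v ∈ ln V A z i₀ := fun t ht v hv =>
    smul_ln h2 hp2 o (hTfix t ht) (hz1 t i₀) hv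
  obtain ⟨v₀, hv₀, hv₀0⟩ := exists_ne h2 hp2 o i₀
  obtain ⟨v₁, hv₁, hv₁0, hv₁'⟩ := exists_fixed (K := ⊥) (H := ln V A z i₀) T.isPGroup' h2
    (fun t _ v hv => by rw [AddSubgroup.mem_bot] at hv ⊢; rw [hv, smul_zero]) hTl bot_le
    (fun h => hv₀0 ((AddSubgroup.mem_bot).1 (h hv₀)))
  have hv₁t : ∀ t ∈ T, t • v₁ = v₁ := fun t ht => by
    have := hv₁' t ht
    rwa [AddSubgroup.mem_bot, sub_eq_zero] at this
  rw [AddSubgroup.mem_bot] at hv₁0
  have hcoord : ∀ w : (ng V (z i₀)), e w 0 = 0 → e w 1 = 0 → w = 0 := by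
    intro w h1 h3
    apply e.injective
    rw [map_zero]
    ext k
    fin_cases k
    · exact h1
    · exact h3
  have hv₁1 : e ⟨v₁, hv₁.2⟩ 1 = 0 := (hlmem ⟨v₁, hv₁.2⟩).1 hv₁
  have hv₁2 : e ⟨v₁, hv₁.2⟩ 0 ≠ 0 := by
    intro h
    exact hv₁0 (congrArg Subtype.val (hcoord _ h hv₁1))
  have hT : ∀ t ∈ T, m t 0 0 = 1 ∧ m t 1 0 = 0 ∧ m t 1 1 = 1 := by
    intro t ht
    have h1 := hact0 t ⟨v₁, hv₁.2⟩ ⟨v₁, hv₁.2⟩ (hv₁t t ht).symm
    have h3 := hact1 t ⟨v₁, hv₁.2⟩ ⟨v₁, hv₁.2⟩ (hv₁t t ht).symm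
    rw [hv₁1, mul_zero, add_zero] at h1 h3
    have h4 : m t 0 0 = 1 := by
      have : (m t 0 0 - 1) * e ⟨v₁, hv₁.2⟩ 0 = 0 := by linear_combination -h1
      rcases mul_eq_zero.1 this with h5 | h5
      · exact sub_eq_zero.1 h5
      · exact absurd h5 hv₁2
    have h5 : m t 1 0 = 0 := by
      rcases mul_eq_zero.1 h3.symm with h5 | h5
      · exact h5
      · exact absurd h5 hv₁2
    refine ⟨h4, h5, ?_⟩
    have h6 := hdet t
    rw [h4, h5] at h6
    simpa using h6
  have hTcent : ∀ v ∈ ln V A z i₀, v ∈ fx V (T : Subgroup X) := by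
    intro v hv t ht
    obtain ⟨h1, h3, h4⟩ := hT t ht
    have hev := (hlmem ⟨v, hv.2⟩).1 hv
    have h5 : (⟨t • v, hNi t v hv.2⟩ : (ng V (z i₀))) = ⟨v, hv.2⟩ := by
      apply e.injective
      ext k
      fin_cases k
      · show e ⟨t • v, hNi t v hv.2⟩ 0 = e ⟨v, hv.2⟩ 0
        rw [hact0 t ⟨v, hv.2⟩ ⟨t • v, hNi t v hv.2⟩ rfl, h1, hev]; ring
      · show e ⟨t • v, hNi t v hv.2⟩ 1 = e ⟨v, hv.2⟩ 1
        rw [hact1 t ⟨v, hv.2⟩ ⟨t • v, hNi t v hv.2⟩ rfl, h3, h4]; ring
    exact congrArg Subtype.val h5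
  have hTeq : ∀ t ∈ T, m t 0 1 = 0 → t = 1 := by
    intro t ht h
    obtain ⟨h1, h3, h4⟩ := hT t ht
    apply hinj
    rw [hone]
    ext x y
    fin_cases x <;> fin_cases y
    · exact h1
    · exact h
    · exact h3
    · exact h4
  -- `|T| = |F|`
  have hcardT : Nat.card T = Fintype.card F := by
    apply le_antisymm
    · rw [← Nat.card_eq_fintype_card]
      refine Nat.card_le_card_of_injective (fun t : T => m (t : X) 0 1) ?_
      intro s t hst
      obtain ⟨h1, h3, h4⟩ := hT s s.2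
      obtain ⟨h5, h6, h7⟩ := hT t t.2
      apply Subtype.ext
      apply hinj
      ext x y
      fin_cases x <;> fin_cases y
      · exact h1.trans h5.symm
      · exact hst
      · exact h3.trans h6.symm
      · exact h4.trans h7.symm
    · rw [hcard]
      exact Nat.card_le_card_of_injective (Subgroup.inclusion (o.le i₀)) (Subgroup.inclusion_injective _)
  have hTex : ∀ b : F, ∃ t ∈ T, m t 0 1 = b := by
    intro b
    obtain ⟨a, ha, hab⟩ := exists_A h2 hp2 o hn hl hcard b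
    exact ⟨a, o.le i₀ ha, hab⟩
  -- vectors fixed by one element
  have hfix1 : ∀ t ∈ T, t ≠ 1 → ∀ n ∈ (ng V (z i₀)), t • n = n → n ∈ ln V A z i₀ := by
    intro t ht ht1 n hn' htn
    obtain ⟨h1, h3, h4⟩ := hT t ht
    rw [← show ((⟨n, hn'⟩ : (ng V (z i₀))) : V) = n from rfl, hlmem]
    have h5 := hact0 t ⟨n, hn'⟩ ⟨n, hn'⟩ htn.symm
    rw [h1, one_mul] at h5
    have h6 : m t 0 1 * e ⟨n, hn'⟩ 1 = 0 := by linear_combination -h5
    rcases mul_eq_zero.1 h6 with h7 | h7
    · exact absurd (hTeq t ht h7) ht1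
    · exact h7
  have hTne : ∃ t ∈ T, t ≠ 1 := by
    obtain ⟨t, ht, h⟩ := hTex 1
    refine ⟨t, ht, ?_⟩
    rintro rfl
    rw [hone] at h
    simp at h
  -- the stabilizer of the line
  let B : Subgroup X :=
    { carrier := {x | m x 1 0 = 0}
      one_mem' := by show m 1 1 0 = 0; rw [hone]; simp
      mul_mem' := by
        intro a b ha hb
        show m (a * b) 1 0 = 0
        rw [h10, (ha : m a 1 0 = 0), (hb : m b 1 0 = 0)]; ring
      inv_mem' := by
        intro a ha
        show m a⁻¹ 1 0 = 0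
        rw [(hinv a).1, (ha : m a 1 0 = 0), neg_zero] }
  have hTB : (T : Subgroup X) ≤ B := fun t ht => (hT t ht).2.1
  have hBne : B ≠ ⊤ := by
    intro h
    obtain ⟨x, hx⟩ := hex ⟨!![0, -1; 1, 0], by rw [Matrix.det_fin_two_of]; ring⟩
    have h1 : x ∈ B := by rw [h]; trivial
    have h3 : m x 1 0 = 0 := h1
    rw [hx] at h3
    simp at h3
  have hBpt : B ≤ pt T := (hmax B hTB).resolve_right hBne
  have hcov : ∀ g₁, g₁ ∉ B → ∀ x, x ∉ B → ∃ t ∈ T, ∃ b ∈ B, x = t * g₁ * b := by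
    intro g₁ hg₁ x hx
    have hg₁' : m g₁ 1 0 ≠ 0 := hg₁
    have hx' : m x 1 0 ≠ 0 := hx
    obtain ⟨t, ht, htb⟩ := hTex (m x 0 0 / m x 1 0 - m g₁ 0 0 / m g₁ 1 0)
    refine ⟨t, ht, (t * g₁)⁻¹ * x, ?_, by group⟩
    show m ((t * g₁)⁻¹ * x) 1 0 = 0
    obtain ⟨h1, h3, h4⟩ := hT t ht
    rw [h10, (hinv _).1, (hinv _).2.2.1, h10, h00, h1, h3, h4, htb]
    field_simp
    ring
  have hptB : pt T = B := by
    apply le_antisymm _ hBpt
    intro g hg
    by_contra hgB
    apply hpt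
    rw [eq_top_iff]
    intro x _
    by_cases hx : x ∈ B
    · exact hBpt hx
    · obtain ⟨t, ht, b, hb, rfl⟩ := hcov g hgB x hx
      exact mul_mem (mul_mem (hBpt (hTB ht)) hg) (hBpt hb)
  refine ⟨?_, ?_, ?_, ?_, ?_, ?_⟩
  · intro t ht ht1 v hv
    obtain ⟨u, hu, n, hn', rfl⟩ := hdec v
    have hun : t • n = n := by
      rw [smul_add, hu t trivial] at hv
      exact add_left_cancel hv
    exact add_mem (fx_anti le_top hu) (hTcent _ (hfix1 t ht ht1 n hn' hun))
  · -- cardinalities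
    have hU0 : fx V (⊤ : Subgroup X) ⊓ (ng V (z i₀)) = ⊥ := by
      rw [eq_bot_iff]
      rintro v ⟨h1, h3⟩
      rw [AddSubgroup.mem_bot]
      exact (o.isZ i₀).inf h2 hp2 (by rw [hfixT]; exact h1) h3
    have hUN : fx V (⊤ : Subgroup X) ⊔ (ng V (z i₀)) = ⊤ := by
      rw [eq_top_iff]
      intro v _
      obtain ⟨u, hu, n, hn', rfl⟩ := hdec v
      exact AddSubgroup.add_mem_sup hu hn'
    have hfxT : fx V (T : Subgroup X) = fx V (⊤ : Subgroup X) ⊔ ln V A z i₀ := by
      apply le_antisymm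
      · intro v hv
        obtain ⟨u, hu, n, hn', rfl⟩ := hdec v
        obtain ⟨t, ht, ht1⟩ := hTne
        have hun : t • n = n := by
          have := hv t ht
          rw [smul_add, hu t trivial] at this
          exact add_left_cancel this
        exact AddSubgroup.add_mem_sup hu (hfix1 t ht ht1 n hn' hun)
      · exact sup_le (fx_anti le_top) hTcent
    have hU1 : fx V (⊤ : Subgroup X) ⊓ ln V A z i₀ = ⊥ := by
      rw [eq_bot_iff, ← hU0]
      exact inf_le_inf_left _ inf_le_right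
    have c1 := card_sup_inf (fx V (⊤ : Subgroup X)) (ng V (z i₀))
    rw [hU0, hUN, AddSubgroup.card_bot, mul_one, card_top] at c1
    have c2 := card_sup_inf (fx V (⊤ : Subgroup X)) (ln V A z i₀)
    rw [hU1, AddSubgroup.card_bot, mul_one, ← hfxT] at c2
    have c3 : Nat.card (ng V (z i₀)) = Fintype.card F ^ 2 := by
      rw [Nat.card_congr e.toEquiv, Nat.card_eq_fintype_card, Fintype.card_fun, Fintype.card_fin]
    have c4 : Nat.card (ln V A z i₀) = Fintype.card F := by
      rw [← Nat.card_eq_fintype_card]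
      refine Nat.card_congr ⟨fun v => e ⟨v.1, v.2.2⟩ 0, fun x => ⟨(e.symm ![x, 0] : (ng V (z i₀))), ?_⟩, ?_, ?_⟩
      · rw [hlmem, AddEquiv.apply_symm_apply]; rfl
      · intro v
        apply Subtype.ext
        show ((e.symm ![e ⟨v.1, v.2.2⟩ 0, 0] : (ng V (z i₀))) : V) = v
        have h1 : (e.symm ![e ⟨v.1, v.2.2⟩ 0, 0] : (ng V (z i₀))) = ⟨v.1, v.2.2⟩ := by
          apply e.injective
          rw [AddEquiv.apply_symm_apply]
          ext k
          fin_cases k
          · rfl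
          · exact ((hlmem ⟨v.1, v.2.2⟩).1 v.2).symm
        rw [h1]
      · intro x
        show e ⟨((e.symm ![x, 0] : (ng V (z i₀))) : V), _⟩ 0 = x
        rw [Subtype.coe_eta, AddEquiv.apply_symm_apply]; rfl
    rw [hcardT, c2, c4, c1, c3]; ring
  · intro g hg
    rw [hptB] at hg
    have hg' : m g 1 0 ≠ 0 := hg
    rw [eq_top_iff]
    intro v _
    obtain ⟨u, hu, n, hn', rfl⟩ := hdec v
    -- `n = l₁ + g l₂`
    set w₂ : (ng V (z i₀)) := e.symm ![e ⟨n, hn'⟩ 1 / m g 1 0, 0] with hw₂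
    have hw₂l : (w₂ : V) ∈ ln V A z i₀ := by rw [hlmem, hw₂, AddEquiv.apply_symm_apply]; rfl
    have hgw₂ : g • (w₂ : V) ∈ (ng V (z i₀)) := hNi g _ w₂.2
    have hw0 : e w₂ 0 = e ⟨n, hn'⟩ 1 / m g 1 0 := by rw [hw₂, AddEquiv.apply_symm_apply]; rfl
    have hw1 : e w₂ 1 = 0 := by rw [hw₂, AddEquiv.apply_symm_apply]; rfl
    have h3 := hact1 g w₂ ⟨_, hgw₂⟩ rfl
    rw [hw0, hw1, mul_zero, add_zero, mul_div_cancel₀ _ hg'] at h3
    have h4 : n - g • (w₂ : V) ∈ ln V A z i₀ := by
      have h5 : (((⟨n, hn'⟩ - ⟨_, hgw₂⟩ : (ng V (z i₀)))) : V) = n - g • (w₂ : V) := rfl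
      rw [← h5, hlmem, map_sub, Pi.sub_apply, h3, sub_self]
    have h5 : u + n = (u + (n - g • (w₂ : V))) + g • (w₂ : V) := by abel
    rw [h5]
    refine AddSubgroup.add_mem_sup (add_mem (fx_anti le_top hu) (hTcent _ h4)) ?_
    exact smul_mem_fx_cj (hTcent _ hw₂l)
  · rintro g hg v ⟨hv, hv'⟩
    rw [hptB] at hg
    have hg' : m g 1 0 ≠ 0 := hg
    have hv'' := mem_fx_cj.1 hv'
    obtain ⟨u, hu, n, hn', rfl⟩ := hdec v
    obtain ⟨t, ht, ht1⟩ := hTne
    have hln : n ∈ ln V A z i₀ := by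
      apply hfix1 t ht ht1 n hn'
      have := hv t ht
      rw [smul_add, hu t trivial] at this
      exact add_left_cancel this
    have hln' : g⁻¹ • n ∈ ln V A z i₀ := by
      apply hfix1 t ht ht1 _ (hNi _ _ hn')
      have := hv'' t ht
      rw [smul_add g⁻¹, hu g⁻¹ trivial, smul_add, hu t trivial] at this
      exact add_left_cancel this
    have h1 := (hlmem ⟨n, hn'⟩).1 hln
    have h3 := (hlmem ⟨g⁻¹ • n, hNi _ _ hn'⟩).1 hln'
    rw [hact1 g⁻¹ ⟨n, hn'⟩ ⟨g⁻¹ • n, hNi _ _ hn'⟩ rfl, h1, (hinv g).1, mul_zero, add_zero] at h3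
    have h4 : e ⟨n, hn'⟩ 0 = 0 := by
      rcases mul_eq_zero.1 h3 with h5 | h5
      · exact absurd (neg_eq_zero.1 h5) hg'
      · exact h5
    have h5 : n = 0 := congrArg Subtype.val (hcoord ⟨n, hn'⟩ h4 h1)
    rw [h5, add_zero]; exact hu
  · rw [hptB]; exact hcov
  · intro g hg t ht h
    rw [hptB] at hg h
    have hg' : m g 1 0 ≠ 0 := hg
    have h1 : m (g⁻¹ * t * g) 1 0 = 0 := h
    obtain ⟨h3, h4, h5⟩ := hT t ht
    rw [h10, h10, h11, (hinv g).1, (hinv g).2.2.1, h3, h4, h5] at h1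
    apply hTeq t ht
    have h6 : m t 0 1 * (m g 1 0 * m g 1 0) = 0 := by linear_combination -h1
    rcases mul_eq_zero.1 h6 with h7 | h7
    · exact h7
    · exact absurd (mul_self_eq_zero.1 h7) hg'

end Cfsg.Agent.H215.RankOne
end

-- part: H215/Setup
section
/-!
# The minimal failure: first reductions
-/

set_option autoImplicit false
set_option linter.unusedSectionVars false
set_option linter.unusedVariables false

open Cfsg

namespace Cfsg.Agent.H215.Setup

open Cfsg.Agent.H215.Fun Cfsg.Agent.H215.Act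

variable {G : Type*} [Group G] [Finite G] {p : ℕ} [hp : Fact p.Prime]

/-- The elements of order dividing `p` of the centre of `Q`. -/
def Om (p : ℕ) (Q : Subgroup G) : Subgroup G where
  carrier := {x | x ∈ Zs Q ∧ x ^ p = 1}
  one_mem' := ⟨one_mem _, one_pow p⟩
  mul_mem' := by
    rintro a b ⟨ha, ha'⟩ ⟨hb, hb'⟩
    refine ⟨mul_mem ha hb, ?_⟩
    have hc : Commute a b := (mem_Zs.1 hb).2 a (mem_Zs.1 ha).1
    rw [hc.mul_pow, ha', hb', one_mul]
  inv_mem' := by
    rintro a ⟨ha, ha'⟩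
    exact ⟨inv_mem ha, by rw [inv_pow, ha', inv_one]⟩

theorem mem_Om {Q : Subgroup G} {x : G} : x ∈ Om p Q ↔ x ∈ Zs Q ∧ x ^ p = 1 := Iff.rfl

theorem normal_of {W : Subgroup G → Subgroup G} {N : Subgroup G} (hN : N.Normal)
    (hW : Subgroup.normalizer (N : Set G) ≤ Subgroup.normalizer (W N : Set G)) : (W N).Normal := by
  rw [← Subgroup.normalizer_eq_top_iff, eq_top_iff]
  refine le_trans ?_ hW
  rw [Subgroup.normalizer_eq_top_iff.2 hN]

theorem normal_Om {Q : Subgroup G} (hQ : Q.Normal) : (Om p Q).Normal := by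
  have h1 : (Zs Q).Normal := normal_of hQ normalizer_le_Zs
  constructor
  rintro x ⟨hx, hx'⟩ g
  refine ⟨h1.conj_mem x hx g, ?_⟩
  rw [conj_pow, hx', mul_one, mul_inv_cancel]

theorem normal_of_central {N : Subgroup G} (h : N ≤ Subgroup.center G) : N.Normal := by
  constructor
  intro n hn g
  have h1 := Subgroup.mem_center_iff.1 (h hn) g
  rw [h1, mul_inv_cancel_right]
  exact hn

/-- an averaging argument -/
theorem stepA (S : Sylow p G) {Z : Subgroup G} (hZn : Z.Normal) (hZ : Ab Z) (hZS : Z ≤ S)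
    (h : ∀ x ∈ Z, x ^ p = 1 → (∀ s ∈ S, s * x = x * s) → x ∈ Subgroup.center G) :
    ∀ x ∈ Z, (∀ s ∈ S, s * x = x * s) → x ∈ Subgroup.center G := by
  classical
  have key : ∀ n : ℕ, ∀ x ∈ Z, orderOf x = n → (∀ s ∈ S, s * x = x * s) → x ∈ Subgroup.center G := by
    intro n
    induction n using Nat.strong_induction_on with
    | _ n ih =>
    intro x hx hn hxS
    by_cases hx1 : x = 1
    · rw [hx1]; exact one_mem _
    -- the order of `x`
    obtain ⟨k, hk⟩ := (IsPGroup.iff_orderOf.1 S.isPGroup') ⟨x, hZS hx⟩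
    have hk' : orderOf x = p ^ k := by rw [← hk, ← Subgroup.orderOf_coe]
    have hk0 : k ≠ 0 := by
      rintro rfl
      rw [pow_zero, orderOf_eq_one_iff] at hk'
      exact hx1 hk'
    have hpd : p ∣ orderOf x := by rw [hk']; exact dvd_pow_self p hk0
    have hlt : orderOf (x ^ p) < n := by
      rw [← hn, orderOf_pow_of_dvd hp.out.ne_zero hpd]
      exact Nat.div_lt_self (orderOf_pos x) hp.out.one_lt
    have hxp : x ^ p ∈ Subgroup.center G := by
      refine ih _ hlt (x ^ p) (pow_mem hx p) rfl fun s hs => ?_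
      exact ((show Commute s x from hxS s hs).pow_right p)
    -- the product
    let _ : CommGroup ↥Z :=
      { (inferInstance : Group ↥Z) with
        mul_comm := fun a b => Subtype.ext (hZ a a.2 b b.2) }
    have _ : Fintype (G ⧸ (S : Subgroup G)) := Fintype.ofFinite _
    let φ : G → ↥Z := fun g => ⟨g * x * g⁻¹, hZn.conj_mem x hx g⟩
    let f : G ⧸ (S : Subgroup G) → ↥Z := fun c => Quotient.liftOn' c φ (by
      intro a b hab
      rw [QuotientGroup.leftRel_apply] at hab
      apply Subtype.ext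
      show a * x * a⁻¹ = b * x * b⁻¹
      have h1 := hxS _ hab
      have h2 : b * x = a * x * a⁻¹ * b := by
        calc b * x = a * ((a⁻¹ * b) * x) := by group
          _ = a * (x * (a⁻¹ * b)) := by rw [h1]
          _ = _ := by group
      rw [h2]; group)
    let y : ↥Z := ∏ c, f c
    have hyc : (y : G) ∈ Subgroup.center G := by
      rw [Subgroup.mem_center_iff]
      intro g
      have h1 : MulAut.conjNormal g y = y := by
        show MulAut.conjNormal g (∏ c, f c) = ∏ c, f c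
        rw [map_prod, ← Equiv.prod_comp (MulAction.toPerm g) f]
        refine Finset.prod_congr rfl fun c _ => ?_
        induction c using QuotientGroup.induction_on with
        | H a =>
          apply Subtype.ext
          rw [MulAut.conjNormal_apply]
          show g * (a * x * a⁻¹) * g⁻¹ = (g * a) * x * (g * a)⁻¹
          group
      have h2 := congrArg Subtype.val h1
      rw [MulAut.conjNormal_apply, mul_inv_eq_iff_eq_mul] at h2
      exact h2
    set n' := Nat.card (G ⧸ (S : Subgroup G)) with hn'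
    have hyp : (y : G) ^ p = (x ^ p) ^ n' := by
      have h1 : y ^ p = (⟨x ^ p, pow_mem hx p⟩ : ↥Z) ^ n' := by
        show (∏ c, f c) ^ p = _
        rw [← Finset.prod_pow, Finset.prod_congr rfl (g := fun _ => (⟨x ^ p, pow_mem hx p⟩ : ↥Z)),
          Finset.prod_const, Finset.card_univ, hn', Nat.card_eq_fintype_card]
        intro c _
        induction c using QuotientGroup.induction_on with
        | H a =>
          apply Subtype.ext
          show (a * x * a⁻¹) ^ p = x ^ p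
          rw [conj_pow, Subgroup.mem_center_iff.1 hxp a, mul_inv_cancel_right]
      exact congrArg Subtype.val h1
    have hcop : Nat.Coprime n' (orderOf x) := by
      rw [hk']
      refine Nat.Coprime.pow_right k ?_
      rw [Nat.coprime_comm, Nat.Prime.coprime_iff_not_dvd hp.out]
      rw [hn', ← Subgroup.index_eq_card]
      exact S.not_dvd_index
    obtain ⟨m, hm⟩ := exists_pow_eq_self_of_coprime hcop
    -- the correction
    have hxy : Commute x ((y : G) ^ m)⁻¹ :=
      ((show Commute x (y : G) from Subgroup.mem_center_iff.1 hyc x).pow_right m).inv_right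
    have hw : (x * ((y : G) ^ m)⁻¹) ^ p = 1 := by
      rw [hxy.mul_pow, inv_pow, ← pow_mul, mul_comm m p, pow_mul, hyp, ← pow_mul, ← pow_mul]
      have h1 : x ^ (p * (n' * m)) = x ^ p := by
        calc x ^ (p * (n' * m)) = ((x ^ n') ^ m) ^ p := by rw [← pow_mul, ← pow_mul]; congr 1; ring
          _ = x ^ p := by rw [hm]
      rw [h1, mul_inv_cancel]
    have hwc : x * ((y : G) ^ m)⁻¹ ∈ Subgroup.center G := by
      refine h _ (mul_mem hx (inv_mem (pow_mem y.2 m))) hw fun s hs => ?_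
      have h1 : Commute s ((y : G) ^ m)⁻¹ :=
        ((show Commute s (y : G) from Subgroup.mem_center_iff.1 hyc s).pow_right m).inv_right
      exact (show Commute s x from hxS s hs).mul_right h1
    have h2 := mul_mem hwc (pow_mem hyc m)
    rwa [inv_mul_cancel_right] at h2
  intro x hx hxS
  exact key _ x hx rfl hxS

/-- The data of a minimal failure. -/
structure Min (p : ℕ) [Fact p.Prime] (S : Sylow p G) (M : Subgroup G) : Prop where
  p2 : p ≠ 2
  con : Subgroup.centralizer (pCore p G : Set G) ≤ pCore p G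
  Mne : M ≠ ⊤
  max : ∀ H : Subgroup G, (S : Subgroup G) ≤ H → H ≠ ⊤ → H ≤ M
  bad : ¬ ⁅pCore p G, (⊤ : Subgroup G)⁆ ≤ ⁅pCore p G, M⁆
  Zn : ¬ (Zs (S : Subgroup G)).Normal
  Kn : ¬ (K (S : Subgroup G)).Normal
  nrm : ∀ N : Subgroup G, N.Normal → N ≠ ⊤ → pCore p G ≤ N → Jt (S : Subgroup G) ≤ N → N ≤ M

namespace Min

variable {S : Sylow p G} {M : Subgroup G} (m : Min p S M)
include m

theorem S_ne : (S : Subgroup G) ≠ ⊤ := by
  intro h
  apply m.Zn
  apply normal_of _ normalizer_le_Zs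
  rw [h]; infer_instance

theorem SM : (S : Subgroup G) ≤ M := m.max _ le_rfl m.S_ne

omit m in
theorem QS : pCore p G ≤ S := Cfsg.Agent.Lib.Cores.pCore_le_sylow S

omit m in
theorem Qn : (pCore p G).Normal := Cfsg.Agent.Lib.Cores.pCore_normal p

theorem QM : pCore p G ≤ M := QS.trans m.SM

theorem SQ : ¬ (S : Subgroup G) ≤ pCore p G := by
  intro h
  have h1 : (S : Subgroup G) = pCore p G := le_antisymm h QS
  apply m.Zn
  rw [h1]
  exact normal_of Qn normalizer_le_Zs

theorem exists_notMem : ∃ g, g ∉ M := by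
  by_contra hcon
  push Not at hcon
  exact m.Mne (by rw [eq_top_iff]; exact fun x _ => hcon x)

/-- a normal subgroup covers `G/S` or meets `S` in `O_p(G)` -/
theorem sup_or_inf (N : Subgroup G) (hN : N.Normal) : N ⊔ S = ⊤ ∨ (S : Subgroup G) ⊓ N ≤ pCore p G := by
  by_cases h : N ⊔ S = ⊤
  · exact Or.inl h
  right
  have hNM : N ≤ M := le_sup_left.trans (m.max _ le_sup_right h)
  have h1 := Cfsg.Agent.H39.sylow_le_normalizer_inf S N
  have h2 : Subgroup.normalizer (((S : Subgroup G) ⊓ N : Subgroup G) : Set G) = ⊤ := by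
    by_contra h3
    have h4 := m.max _ h1 h3
    apply m.Mne
    rw [eq_top_iff]
    intro x _
    obtain ⟨n, hn, l, hl, rfl⟩ := Cfsg.Agent.H39.exists_mul_normalizer S N x
    exact mul_mem (h4 hn) (hNM hl)
  exact Cfsg.Agent.Lib.Cores.le_pCore (Subgroup.normalizer_eq_top_iff.1 h2) (S.isPGroup'.to_le inf_le_left)

theorem ZS_le : Zs (S : Subgroup G) ≤ Zs (pCore p G) := by
  intro x hx
  rw [mem_Zs] at hx ⊢
  refine ⟨m.con ?_, fun y hy => hx.2 y (QS hy)⟩
  rw [Subgroup.mem_centralizer_iff]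
  exact fun y hy => hx.2 y (QS hy)

/-- the module -/
def V (p : ℕ) (G : Type*) [Group G] : Subgroup G := Om p (pCore p G)

omit [Finite G] m in
theorem V_le_Z : V p G ≤ Zs (pCore p G) := fun _ h => h.1

omit [Finite G] m in
theorem V_le : V p G ≤ pCore p G := V_le_Z.trans Zs_le

omit m in
theorem V_normal : (V p G).Normal := normal_Om Qn

omit [Finite G] m in
theorem V_comm : ∀ a ∈ V p G, ∀ b ∈ V p G, a * b = b * a := fun a ha b hb =>
  ((mem_Zs.1 (V_le_Z hb)).2 a (V_le ha))

omit [Finite G] m in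
theorem V_Q {q v : G} (hq : q ∈ pCore p G) (hv : v ∈ V p G) : q * v = v * q :=
  (mem_Zs.1 (V_le_Z hv)).2 q hq

omit [Finite G] m in
theorem V_pow {v : G} (hv : v ∈ V p G) : v ^ p = 1 := hv.2

theorem CS_ne : Subgroup.centralizer (V p G : Set G) ⊔ S ≠ ⊤ := by
  intro h
  apply m.Zn
  apply normal_of_central
  have hZn : (Zs (pCore p G)).Normal := normal_of Qn normalizer_le_Zs
  have h1 := stepA S hZn (fun a ha b hb => (mem_Zs.1 hb).2 a (Zs_le ha)) (Zs_le.trans QS) (by
    intro x hx hxp hxS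
    have hxV : x ∈ V p G := ⟨hx, hxp⟩
    have h2 : Subgroup.centralizer (V p G : Set G) ⊔ S ≤ Subgroup.centralizer ({x} : Set G) := by
      apply sup_le
      · intro c hc
        rw [Subgroup.mem_centralizer_singleton_iff]
        exact (Subgroup.mem_centralizer_iff.1 hc x hxV).symm
      · intro s hs
        rw [Subgroup.mem_centralizer_singleton_iff]
        exact hxS s hs
    rw [Subgroup.mem_center_iff]
    intro g
    have h3 : g ∈ Subgroup.centralizer ({x} : Set G) := h2 (by rw [h]; trivial)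
    exact Subgroup.mem_centralizer_singleton_iff.1 h3)
  intro x hx
  exact h1 x (m.ZS_le hx) fun s hs => (mem_Zs.1 hx).2 s hs

theorem CM : Subgroup.centralizer (V p G : Set G) ≤ M := le_sup_left.trans (m.max _ le_sup_right m.CS_ne)

omit m in
theorem QC : pCore p G ≤ Subgroup.centralizer (V p G : Set G) := by
  intro q hq
  rw [Subgroup.mem_centralizer_iff]
  exact fun v hv => (V_Q hq hv).symm

theorem CS_inf : (S : Subgroup G) ⊓ Subgroup.centralizer (V p G : Set G) ≤ pCore p G := by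
  have _ := V_normal (p := p) (G := G)
  exact (m.sup_or_inf _ inferInstance).resolve_left m.CS_ne

/-- `J(S) ≰ O_p(G)` -/
theorem J_not_le : ¬ J (S : Subgroup G) ≤ pCore p G := by
  intro h
  have hJ : J (pCore p G) = J (S : Subgroup G) := J_eq_of_le QS h
  have hJn : (J (S : Subgroup G)).Normal := by rw [← hJ]; exact normal_of Qn normalizer_le_J
  have hZJn : (Zs (J (S : Subgroup G))).Normal := normal_of hJn normalizer_le_Zs
  have hCn : (Subgroup.centralizer (Zs (J (S : Subgroup G)) : Set G)).Normal := inferInstance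
  rcases m.sup_or_inf _ hCn with h1 | h1
  · apply m.Zn
    apply normal_of_central
    intro x hx
    have h2 : Subgroup.centralizer (Zs (J (S : Subgroup G)) : Set G) ⊔ S ≤ Subgroup.centralizer ({x} : Set G) := by
      apply sup_le
      · intro c hc
        rw [Subgroup.mem_centralizer_singleton_iff]
        exact (Subgroup.mem_centralizer_iff.1 hc x (Zs_le_ZJ hx)).symm
      · intro s hs
        rw [Subgroup.mem_centralizer_singleton_iff]
        exact (mem_Zs.1 hx).2 s hs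
    rw [Subgroup.mem_center_iff]
    intro g
    have h3 : g ∈ Subgroup.centralizer ({x} : Set G) := h2 (by rw [h1]; trivial)
    exact Subgroup.mem_centralizer_singleton_iff.1 h3
  · have h2 : Jt (S : Subgroup G) ≤ pCore p G := h1
    have h3 : Jt (S : Subgroup G) = pCore p G ⊓ Subgroup.centralizer (Zs (J (S : Subgroup G)) : Set G) :=
      le_antisymm (le_inf h2 inf_le_right) (inf_le_inf_right _ QS)
    have hQn := Qn (p := p) (G := G)
    have hJtn : (Jt (S : Subgroup G)).Normal := by rw [h3]; infer_instance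
    apply m.Kn
    rw [K]
    by_cases h4 : D (Jt (S : Subgroup G)) = ⊥
    · rw [if_pos h4]; exact hJn
    · rw [if_neg h4]; exact normal_of hJtn normalizer_le_D

end Min

end Cfsg.Agent.H215.Setup
end

-- part: H215/Off
section
/-!
# The minimal failure: `G / C_G(V) ≅ SL₂(q)`
-/

set_option autoImplicit false
set_option linter.unusedSectionVars false
set_option linter.unusedVariables false

open Cfsg

namespace Cfsg.Agent.H215.Off

open Cfsg.Agent.H215.Fun Cfsg.Agent.H215.Act Cfsg.Agent.H215.Setup Cfsg.Agent.H215.Setup.Min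
open Cfsg.Agent.H263.FF.Basic Cfsg.Agent.H263.FF.Setup Cfsg.Agent.H263.FF.PMin Cfsg.Agent.H263.FF.OddNat
open Cfsg.Agent.H215.Line Cfsg.Agent.H215.Timm Cfsg.Agent.H215.Glob Cfsg.Agent.H215.RankOne
open scoped Pointwise

/-- `|π(Y)| |Y ∩ ker π| = |Y|` -/
theorem card_map_mul {G X : Type*} [Group G] [Group X] [Finite G] (π : G →* X) (Y : Subgroup G) :
    Nat.card (Y.map π) * Nat.card (Y ⊓ π.ker : Subgroup G) = Nat.card Y := by
  have h1 := Subgroup.card_eq_card_quotient_mul_card_subgroup (π.comp Y.subtype).ker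
  have h2 : Nat.card (Y ⧸ (π.comp Y.subtype).ker) = Nat.card (Y.map π) := by
    rw [Nat.card_congr (QuotientGroup.quotientKerEquivRange (π.comp Y.subtype)).toEquiv]
    rw [MonoidHom.range_comp, Subgroup.range_subtype]
  have h3 : Nat.card (π.comp Y.subtype).ker = Nat.card (Y ⊓ π.ker : Subgroup G) := by
    refine Nat.card_congr ⟨fun x => ⟨x.1.1, x.1.2, x.2⟩, fun x => ⟨⟨x.1, x.2.1⟩, x.2.2⟩, fun _ => rfl, fun _ => rfl⟩
  rw [← h2, ← h3, h1]

theorem coatom_conj {X : Type*} [Group X] {M : Subgroup X} (hM : IsCoatom M) (g : X) : IsCoatom (cj g M) := by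
  constructor
  · intro e
    apply hM.1
    rw [← cj_inv_cj g M, e, cj_top]
  · intro K hK
    have h1 : M < cj g⁻¹ K := by
      rw [← cj_inv_cj g M]
      exact lt_of_le_of_ne (cj_mono _ hK.le) fun e => hK.ne (cj_inj e)
    have h2 := hM.2 _ h1
    rw [← cj_cj_inv g K, h2, cj_top]

/-- an elementary abelian offender inside an abelian one -/
theorem exists_EA {p : ℕ} [hp : Fact p.Prime] {X : Type*} [Group X] [Finite X] {V : Type*} [AddCommGroup V] [Finite V]
    [DistribMulAction X V] (h2 : ∀ v : V, p • v = 0) (hf : ∀ x : X, (∀ v : V, x • v = v) → x = 1) {A : Subgroup X}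
    (hA : ∀ a ∈ A, ∀ b ∈ A, a * b = b * a) (hAp : IsPGroup p A) (hA1 : A ≠ ⊥) (hoff : mm V (⊥ : Subgroup X) ≤ mm V A) :
    ∃ B : Subgroup X, EA p B ∧ B ≠ ⊥ ∧ Nat.card V ≤ mm V B := by
  have hk : kr A (⊤ : AddSubgroup V) = ⊥ := by
    rw [eq_bot_iff]
    intro x hx
    rw [Subgroup.mem_bot]
    exact hf x fun v => hx.2 v trivial
  have e1 : ∀ B : Subgroup X, ((⊤ : AddSubgroup V) ⊓ fx V B : AddSubgroup V) = fx V B := fun B => top_inf_eq _
  obtain ⟨B, hBA, -, ⟨b, hb, v, -, hbv⟩, hcard, hq⟩ := timm (L := (⊤ : AddSubgroup V)) hA hAp h2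
    (fun _ _ _ _ => trivial) (by
      rw [hk, e1, card_top, Subgroup.card_bot, one_mul]
      rw [mm_bot] at hoff
      exact hoff) (by
      by_contra hcon
      push Not at hcon
      apply hA1
      rw [eq_bot_iff]
      intro a ha
      rw [Subgroup.mem_bot]
      exact hf a fun v => hcon a ha v trivial)
  refine ⟨B, ⟨fun a ha b hb => hA a (hBA ha) b (hBA hb), ?_⟩, ?_, ?_⟩
  · intro a ha
    apply hf
    intro v
    have key : ∀ k : ℕ, a ^ k • v = v + k • (a • v - v) := by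
      intro k
      induction k with
      | zero => rw [pow_zero, one_smul, zero_smul, add_zero]
      | succ k ih =>
        have h3 : a • (k • (a • v - v)) = k • (a • v - v) := by
          rw [smul_comm, hq a ha a ha v trivial]
        rw [pow_succ', mul_smul, ih, smul_add, h3, succ_nsmul]
        abel
    rw [key, h2, add_zero]
  · rintro rfl
    rw [Subgroup.mem_bot] at hb
    rw [hb, one_smul] at hbv
    exact hbv rfl
  · rw [hk, e1, card_top, Subgroup.card_bot, one_mul] at hcard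
    exact hcard

variable {G : Type*} [Group G] [Finite G] {p : ℕ} [hp : Fact p.Prime]

theorem hInv : Inv (MonoidHom.id G) (V p G) :=
  ⟨V_comm, fun g v hv => V_normal.conj_mem v hv g⟩

/-- the module -/
abbrev W (p : ℕ) [Fact p.Prime] (G : Type*) [Group G] [Finite G] : Type _ := Md (MonoidHom.id G) (V p G) hInv

/-- the group acting -/
abbrev Xg (p : ℕ) [Fact p.Prime] (G : Type*) [Group G] [Finite G] : Type _ := G ⧸ kerF G (W p G)

/-- the projection -/
abbrev pp (p : ℕ) [Fact p.Prime] (G : Type*) [Group G] [Finite G] : G →* Xg p G := pr G (W p G)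

theorem fx_iff {Y : Subgroup G} {v : W p G} : v ∈ fx (W p G) Y ↔ v.val ∈ V p G ⊓ Subgroup.centralizer (Y : Set G) := by
  rw [mem_fx, Subgroup.mem_inf, Subgroup.mem_centralizer_iff]
  constructor
  · intro h
    exact ⟨v.val_mem, fun y hy => (Md.smul_eq_iff y v).1 (h y hy)⟩
  · intro h y hy
    exact (Md.smul_eq_iff y v).2 (h.2 y hy)

theorem card_fx (Y : Subgroup G) : Nat.card (fx (W p G) Y) = Nat.card (V p G ⊓ Subgroup.centralizer (Y : Set G) : Subgroup G) :=
  Nat.card_congr ⟨fun v => ⟨v.1.val, fx_iff.1 v.2⟩, fun v => ⟨Md.mk _ hInv (Subgroup.mem_inf.1 v.2).1, fx_iff.2 v.2⟩,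
    fun _ => rfl, fun _ => rfl⟩

theorem card_W : Nat.card (W p G) = Nat.card (V p G) := rfl

theorem ker_pp : (pp p G).ker = Subgroup.centralizer (V p G : Set G) := by
  ext g
  rw [MonoidHom.mem_ker, pr_eq_one, Subgroup.mem_centralizer_iff]
  constructor
  · intro h v hv
    exact ((Md.smul_eq_iff g (Md.mk _ hInv hv)).1 (h _)).symm
  · intro h v
    exact (Md.smul_eq_iff g v).2 (h _ v.val_mem).symm

theorem W_pow (v : W p G) : p • v = 0 := by
  apply Md.val_inj
  rw [Md.val_nsmul]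
  exact V_pow v.val_mem

theorem mm_map (Y : Subgroup G) : mm (W p G) (Y.map (pp p G)) * Nat.card (Y ⊓ Subgroup.centralizer (V p G : Set G) : Subgroup G) =
    Nat.card Y * Nat.card (V p G ⊓ Subgroup.centralizer (Y : Set G) : Subgroup G) := by
  rw [mm, fx_map, card_fx, ← card_map_mul (pp p G) Y, ker_pp]
  ring

/-- the offender inequality for the abelian subgroups of largest order -/
theorem LA_off {P A Y V₀ : Subgroup G} (hA : LA P A) (hV : Ab V₀) (hVP : V₀ ≤ P) (hY : Y ≤ A) :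
    Nat.card Y * Nat.card (V₀ ⊓ Subgroup.centralizer (Y : Set G) : Subgroup G) ≤
      Nat.card A * Nat.card (V₀ ⊓ Subgroup.centralizer (A : Set G) : Subgroup G) := by
  set C := V₀ ⊓ Subgroup.centralizer (Y : Set G) with hC
  have h1 := Cfsg.Agent.H264.CD.card_mul_card_le Y C
  have hab : Ab (Y ⊔ C) := by
    have h2 : Y ⊔ C ≤ Subgroup.centralizer ((Y ⊔ C : Subgroup G) : Set G) := by
      have hYY : Y ≤ Subgroup.centralizer (Y : Set G) := fun y hy => by
        rw [Subgroup.mem_centralizer_iff]; exact fun z hz => hA.2.1 z (hY hz) y (hY hy)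
      have hCC : C ≤ Subgroup.centralizer (C : Set G) := fun y hy => by
        rw [Subgroup.mem_centralizer_iff]; exact fun z hz => hV z hz.1 y hy.1
      have hCY : C ≤ Subgroup.centralizer (Y : Set G) := inf_le_right
      rw [Cfsg.Agent.H264.CD.centralizer_sup]
      exact sup_le (le_inf hYY (Subgroup.le_centralizer_iff.1 hCY)) (le_inf hCY hCC)
    intro a ha b hb
    exact (Subgroup.mem_centralizer_iff.1 (h2 hb) a ha)
  have h3 := hA.2.2 _ (sup_le (hY.trans hA.1) (inf_le_left.trans hVP)) hab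
  have h4 : Y ⊓ C ≤ V₀ ⊓ Subgroup.centralizer (A : Set G) := by
    rintro x ⟨hx, hx'⟩
    refine Subgroup.mem_inf.2 ⟨hx'.1, ?_⟩
    rw [Subgroup.mem_centralizer_iff]
    exact fun a ha => hA.2.1 a ha x (hY hx)
  exact h1.trans (Nat.mul_le_mul h3 (Subgroup.card_le_of_le h4))

theorem mm_le {P A : Subgroup G} (hA : LA P A) (hVP : V p G ≤ P) {B : Subgroup (Xg p G)} (hB : B ≤ A.map (pp p G)) :
    mm (W p G) B ≤ mm (W p G) (A.map (pp p G)) := by
  set Y := A ⊓ B.comap (pp p G) with hY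
  have hYB : Y.map (pp p G) = B := by
    apply le_antisymm
    · rintro _ ⟨y, hy, rfl⟩
      exact hy.2
    · intro b hb
      obtain ⟨a, ha, rfl⟩ := hB hb
      exact ⟨a, ⟨ha, hb⟩, rfl⟩
  have hYC : Y ⊓ Subgroup.centralizer (V p G : Set G) = A ⊓ Subgroup.centralizer (V p G : Set G) := by
    rw [← ker_pp]
    apply le_antisymm (inf_le_inf_right _ inf_le_left)
    rintro x ⟨hx, hx'⟩
    refine ⟨⟨hx, ?_⟩, hx'⟩
    show pp p G x ∈ B
    rw [(MonoidHom.mem_ker).1 hx']; exact one_mem _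
  have h1 := mm_map (p := p) Y
  have h2 := mm_map (p := p) A
  have h3 := LA_off hA (V_comm (p := p)) hVP (inf_le_left : Y ≤ A)
  rw [← h1, ← h2, hYC, hYB] at h3
  exact Nat.le_of_mul_le_mul_right h3 Nat.card_pos

section

variable {S : Sylow p G} {M : Subgroup G} (m : Min p S M)

/-- the Sylow subgroup of the quotient -/
noncomputable def TT (S : Sylow p G) : Sylow p (Xg p G) := S.mapSurjective (f := pp p G) pr_surj

theorem coe_TT : (TT S : Subgroup (Xg p G)) = (S : Subgroup G).map (pp p G) := rfl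

include m

theorem comap_M : (M.map (pp p G)).comap (pp p G) = M := by
  rw [Subgroup.comap_map_eq, ker_pp]
  exact sup_eq_left.2 m.CM

theorem M_ne : M.map (pp p G) ≠ ⊤ := by
  intro h
  apply m.Mne
  rw [← comap_M m, h, Subgroup.comap_top]

theorem le_of_TT {H : Subgroup (Xg p G)} (h : (TT S : Subgroup (Xg p G)) ≤ H) : H ≤ M.map (pp p G) ∨ H = ⊤ := by
  by_cases h1 : H.comap (pp p G) = ⊤
  · right
    rw [eq_top_iff]
    intro x _
    obtain ⟨x, rfl⟩ := pr_surj x
    have : x ∈ H.comap (pp p G) := by rw [h1]; trivial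
    exact this
  · left
    have h2 : (S : Subgroup G) ≤ H.comap (pp p G) := by
      rw [← Subgroup.map_le_iff_le_comap]; exact h
    have h3 := m.max _ h2 h1
    intro x hx
    obtain ⟨x, rfl⟩ := pr_surj x
    exact ⟨x, h3 hx, rfl⟩

theorem coatom_M : IsCoatom (M.map (pp p G)) := by
  refine ⟨M_ne m, fun K hK => ?_⟩
  refine (le_of_TT m ?_).resolve_left fun h => hK.not_ge h
  exact (Subgroup.map_mono m.SM).trans hK.le

theorem TT_not_normal : ¬ (TT S : Subgroup (Xg p G)).Normal := by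
  intro h
  have h1 : ((TT S : Subgroup (Xg p G)).comap (pp p G)).Normal := h.comap _
  rw [coe_TT, Subgroup.comap_map_eq, ker_pp] at h1
  rcases m.sup_or_inf _ h1 with h2 | h2
  · apply m.CS_ne
    rw [← h2]
    apply le_antisymm
    · exact sup_le (le_sup_right.trans le_sup_left) le_sup_right
    · exact sup_le (sup_le le_sup_right le_sup_left) le_sup_right
  · exact m.SQ ((le_inf le_rfl le_sup_left).trans h2)

theorem pmin : IsPMinimal p (Xg p G) := by
  intro T'
  obtain ⟨x, hx⟩ := MulAction.exists_smul_eq (Xg p G) (TT S) T'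
  have hT' : (T' : Subgroup (Xg p G)) = cj x (TT S : Subgroup (Xg p G)) := by rw [← hx, coe_smul]
  constructor
  · intro h
    apply TT_not_normal m
    have h1 : (TT S : Subgroup (Xg p G)) = cj x⁻¹ (T' : Subgroup (Xg p G)) := by rw [hT', cj_inv_cj]
    have h2 : x⁻¹ ∈ Subgroup.normalizer ((T' : Subgroup (Xg p G)) : Set (Xg p G)) := by
      rw [Subgroup.normalizer_eq_top_iff.2 h]; trivial
    rw [h1, cj_eq_iff_mem_normalizer.2 h2]
    exact h
  · refine ⟨cj x (M.map (pp p G)), ⟨coatom_conj (coatom_M m) x, ?_⟩, ?_⟩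
    · rw [hT']
      exact cj_mono x (Subgroup.map_mono m.SM)
    · rintro N ⟨hN, hTN⟩
      have h1 := coatom_conj hN x⁻¹
      have h2 : (TT S : Subgroup (Xg p G)) ≤ cj x⁻¹ N := by
        have := cj_mono x⁻¹ hTN
        rwa [hT', cj_inv_cj] at this
      have h3 := (le_of_TT m h2).resolve_right h1.1
      have h4 : cj x⁻¹ N = M.map (pp p G) := by
        by_contra hne
        exact M_ne m (h1.2 _ (lt_of_le_of_ne h3 hne))
      rw [← h4, cj_cj_inv]

theorem mx_eq (hX : IsPMinimal p (Xg p G)) : mx hX (TT S) = M.map (pp p G) :=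
  (eq_mx hX (coatom_M m) (Subgroup.map_mono m.SM)).symm

theorem core (N : Subgroup (Xg p G)) (hN : N.Normal) (hNp : IsPGroup p N) : N = ⊥ := by
  have h1 : (N.comap (pp p G)).Normal := hN.comap _
  have hNT : N ≤ (TT S : Subgroup (Xg p G)) :=
    (Cfsg.Agent.Lib.Cores.le_pCore hN hNp).trans (Cfsg.Agent.Lib.Cores.pCore_le_sylow (TT S))
  rcases m.sup_or_inf _ h1 with h2 | h2
  · exfalso
    apply m.CS_ne
    have h3 : N.comap (pp p G) ≤ Subgroup.centralizer (V p G : Set G) ⊔ S := by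
      have h4 := Subgroup.comap_mono (f := pp p G) hNT
      rw [coe_TT, Subgroup.comap_map_eq, ker_pp, sup_comm] at h4
      exact h4
    rw [eq_top_iff, ← h2]
    exact sup_le h3 le_sup_right
  · rw [eq_bot_iff]
    intro n hn
    obtain ⟨s, hs, rfl⟩ := hNT hn
    rw [Subgroup.mem_bot]
    have h3 : s ∈ (pp p G).ker := by
      rw [ker_pp]; exact QC (h2 ⟨hs, hn⟩)
    exact h3

theorem exists_A : ∃ A, LA (S : Subgroup G) A ∧ ¬ A ≤ pCore p G := by
  by_contra hcon
  push Not at hcon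
  exact m.J_not_le (sSup_le fun A hA => hcon A hA)

theorem exists_out' : ∃ (hX : IsPMinimal p (Xg p G)) (𝒟 : Set (Subgroup (Xg p G))) (r : ℕ) (A L : Fin r → Subgroup (Xg p G))
    (z : Fin r → Xg p G), Out p (W p G) (mx hX) 𝒟 (TT S) r A L z := by
  have hX := pmin m
  obtain ⟨A, hA, hAQ⟩ := exists_A m
  have hVS : V p G ≤ S := V_le.trans QS
  have hAc : ∀ a ∈ A.map (pp p G), ∀ b ∈ A.map (pp p G), a * b = b * a := by
    rintro _ ⟨a, ha, rfl⟩ _ ⟨b, hb, rfl⟩
    rw [← map_mul, ← map_mul, hA.2.1 a ha b hb]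
  have hAp : IsPGroup p (A.map (pp p G)) := (S.isPGroup'.to_le hA.1).map _
  have hA1 : A.map (pp p G) ≠ ⊥ := by
    intro h
    apply hAQ
    rw [Subgroup.map_eq_bot_iff, ker_pp] at h
    exact (le_inf hA.1 h).trans m.CS_inf
  obtain ⟨B, hB, hB1, hoff⟩ := exists_EA W_pow pr_faithful hAc hAp hA1 (mm_le hA hVS bot_le)
  have hvec := Cfsg.Agent.H263.FF.Coprime.exists_vec m.p2 hX (core m) hB hB1 W_pow pr_faithful hoff (TT S)
  obtain ⟨𝒟, h⟩ := exists_hyp hX W_pow pr_faithful (core m) ⟨TT S, hvec⟩ hB hB1 hoff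
  obtain ⟨r, A, L, z, o⟩ := exists_out h m.p2 (TT S)
  exact ⟨hX, 𝒟, r, A, L, z, o⟩

/-- **`G / C_G(V)` is `SL₂(q)` on its natural module** -/
theorem r1 : R1 (W p G) ((S : Subgroup G).map (pp p G)) (M.map (pp p G)) := by
  obtain ⟨hX, 𝒟, r, A, L, z, o⟩ := exists_out' m
  have hVS : V p G ≤ S := V_le.trans QS
  have hmax : ∀ H : Subgroup (Xg p G), (TT S : Subgroup (Xg p G)) ≤ H → H ≤ mx hX (TT S) ∨ H = ⊤ :=
    fun H hH => max_mx hX (TT S) H hH
  -- the vectors of the lines lie in `Z(J(S))`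
  have h1 : ∀ i, ∀ v ∈ ln (W p G) A z i, v.val ∈ Zs (J (S : Subgroup G)) := by
    intro i v hv
    apply mem_ZJ
    intro B hB
    have h2 := off_trivial W_pow m.p2 o (B := B.map (pp p G)) (Subgroup.map_mono hB.1) (by
      rintro _ ⟨a, ha, rfl⟩ _ ⟨b, hb, rfl⟩
      rw [← map_mul, ← map_mul, hB.2.1 a ha b hb]) (fun C hC => mm_le hB hVS hC)
    apply hB.mem (hVS v.val_mem)
    intro b hb
    exact (Md.smul_eq_iff b v).1 (h2 _ ⟨b, hb, rfl⟩ i v hv)
  -- so `Jt(S)` lies in the preimage of `E`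
  have h2 : Jt (S : Subgroup G) ≤ (⨆ i, L i).comap (pp p G) := by
    intro x hx
    have hx' := mem_Jt.1 hx
    refine mem_E W_pow m.p2 pr_faithful o hmax (core m) (t := pp p G x) ⟨x, hx'.1, rfl⟩ ?_
    intro i v hv
    have h3 := hx'.2 _ (h1 i v hv)
    exact (Md.smul_eq_iff x v).2 h3.symm
  have hE := normal_E o hmax
  have hEn : ((⨆ i, L i).comap (pp p G)).Normal := hE.comap _
  have hsup := (m.sup_or_inf _ hEn).resolve_right (fun h => m.J_not_le ((le_inf Fun.J_le (J_le_Jt.trans h2)).trans h))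
  have hQ : pCore p G ≤ (⨆ i, L i).comap (pp p G) := by
    intro q hq
    have : q ∈ (pp p G).ker := by rw [ker_pp]; exact QC hq
    rw [Subgroup.mem_comap, (MonoidHom.mem_ker).1 this]; exact one_mem _
  have htop : (⨆ i, L i).comap (pp p G) = ⊤ := by
    by_contra hne
    have h3 := m.nrm _ hEn hne hQ h2
    apply m.Mne
    rw [eq_top_iff, ← hsup]
    exact sup_le h3 m.SM
  have hEt : (⨆ i, L i) = ⊤ := by
    rw [eq_top_iff]
    intro x _
    obtain ⟨x, rfl⟩ := pr_surj x
    have : x ∈ (⨆ i, L i).comap (pp p G) := by rw [htop]; trivial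
    exact this
  have h3 := rank_one W_pow m.p2 pr_faithful o hmax (mx_ne_top hX (TT S)) hEt
  rw [mx_eq m hX] at h3
  exact h3

end

end Cfsg.Agent.H215.Off
end
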